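import Mathlib
import Cfsg.Prelude.Def_LocalStructure

set_option autoImplicit false

/-! Blueprint of S3875 (least order of a group with non-normal Sylow `p`-subgroups, `p` odd):
exact statements of the pieces (each a `def X : Prop`), all for groups in `Type`.

Route: a non-`p`-closed group of least order is *minimal non-`p`-closed* (`MinNPC`). If it has a
proper non-trivial normal subgroup it has order `p * r ^ k` with `r ^ k ≡ 1 (mod p)`; otherwise
it is simple and Brauer–Reynolds (`Cfsg.Agent.S0999.result`, landed) gives order at least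
`p (p² - 1) / 2`. Existence: `F_m ⋊ C_p` and `PSL(2,p)`. -/

namespace Cfsg.Agent.Lib.Helper15.NpcStmt

/-- minimal non-`p`-closed: not `p`-closed, but all proper subgroups and all proper quotients
are `p`-closed. -/
def MinNPC (p : ℕ) (H : Type) [Group H] : Prop :=
  ¬ Cfsg.IsPClosed p H ∧ (∀ K : Subgroup H, K ≠ ⊤ → Cfsg.IsPClosed p ↥K) ∧
    (∀ (N : Subgroup H) [N.Normal], N ≠ ⊥ → Cfsg.IsPClosed p (H ⧸ N))

/-- [RED] a lower bound for the orders of the minimal non-`p`-closed groups is a lower bound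
for the orders of all non-`p`-closed groups (strong induction on the order: pass to a
non-`p`-closed proper subgroup or proper quotient). -/
def Red : Prop := ∀ (p : ℕ) [Fact p.Prime] (B : ℕ),
  (∀ (H : Type) [Group H] [Finite H], MinNPC p H → B ≤ Nat.card H) →
  ∀ (H : Type) [Group H] [Finite H], ¬ Cfsg.IsPClosed p H → B ≤ Nat.card H

/-- [NOP] a minimal non-`p`-closed group has no non-trivial normal `p`-subgroup. -/
def NoNormalP : Prop := ∀ (p : ℕ) [Fact p.Prime] (H : Type) [Group H] [Finite H], MinNPC p H →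
  ∀ N : Subgroup H, N.Normal → IsPGroup p ↥N → N = ⊥

/-- [NPP] in a minimal non-`p`-closed group every proper normal subgroup is a `p'`-group. -/
def NormalPPrime : Prop := ∀ (p : ℕ) [Fact p.Prime] (H : Type) [Group H] [Finite H],
  MinNPC p H → ∀ N : Subgroup H, N.Normal → N ≠ ⊤ → ¬ p ∣ Nat.card N

/-- [SUP] in a minimal non-`p`-closed group, `P N = H` for every Sylow `p`-subgroup `P` and
every non-trivial normal subgroup `N`. -/
def SupTop : Prop := ∀ (p : ℕ) [Fact p.Prime] (H : Type) [Group H] [Finite H], MinNPC p H →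
  ∀ N : Subgroup H, N.Normal → N ≠ ⊥ → ∀ P : Sylow p H, (P : Subgroup H) ⊔ N = ⊤

/-- [CARD] `|H| = |P| |N|` if `H = P N` with `N` a normal `p'`-subgroup. -/
def CardSplit : Prop := ∀ (p : ℕ) [Fact p.Prime] (H : Type) [Group H] [Finite H]
  (N : Subgroup H), N.Normal → ¬ p ∣ Nat.card N → ∀ P : Sylow p H,
  (P : Subgroup H) ⊔ N = ⊤ → Nat.card H = Nat.card (P : Subgroup H) * Nat.card N

/-- [SYLP] a minimal non-`p`-closed group with a proper non-trivial normal subgroup has Sylow
`p`-subgroups of order `p`. -/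
def SylowPrime : Prop := ∀ (p : ℕ) [Fact p.Prime] (H : Type) [Group H] [Finite H],
  MinNPC p H → ∀ N : Subgroup H, N.Normal → N ≠ ⊥ → N ≠ ⊤ →
  ∀ P : Sylow p H, Nat.card (P : Subgroup H) = p

/-- [PPOWA] in a minimal non-`p`-closed group of order `p |N|`, `N` a normal `p'`-subgroup:
a Sylow `r`-subgroup of `N` different from `N` is centralized by an element of order `p`. -/
def CentSylow : Prop := ∀ (p : ℕ) [Fact p.Prime] (H : Type) [Group H] [Finite H], MinNPC p H →
  ∀ N : Subgroup H, N.Normal → ¬ p ∣ Nat.card N → Nat.card H = p * Nat.card N →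
  ∀ (r : ℕ) [Fact r.Prime] (R : Sylow r ↥N), (R : Subgroup ↥N).map N.subtype ≠ N →
  ∃ y : H, orderOf y = p ∧ ∀ x ∈ (R : Subgroup ↥N).map N.subtype, y * x = x * y

/-- [PPOWB] a normal `p'`-subgroup of index `p` of a minimal non-`p`-closed group has prime
power order. -/
def PrimePow : Prop := ∀ (p : ℕ) [Fact p.Prime] (H : Type) [Group H] [Finite H], MinNPC p H →
  ∀ N : Subgroup H, N.Normal → N ≠ ⊥ → ¬ p ∣ Nat.card N → Nat.card H = p * Nat.card N →
  IsPrimePow (Nat.card N)

/-- [CONG] a minimal normal subgroup of prime power order and index `p` of a minimal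
non-`p`-closed group has order `≡ 1 (mod p)`. -/
def Cong : Prop := ∀ (p : ℕ) [Fact p.Prime] (H : Type) [Group H] [Finite H], MinNPC p H →
  ∀ N : Subgroup H, N.Normal → N ≠ ⊥ →
  (∀ M : Subgroup H, M.Normal → M ≤ N → M = ⊥ ∨ M = N) →
  ¬ p ∣ Nat.card N → Nat.card H = p * Nat.card N → IsPrimePow (Nat.card N) →
  Nat.card N % p = 1

/-- [CASEB] a simple group with non-normal Sylow `p`-subgroups, `p` odd, has order at least
`p (p² - 1) / 2` (Brauer–Reynolds). -/
def CaseB : Prop := ∀ (p : ℕ) [Fact p.Prime], p ≠ 2 → ∀ (H : Type) [Group H] [Finite H],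
  IsSimpleGroup H → ¬ Cfsg.IsPClosed p H → p * (p ^ 2 - 1) / 2 ≤ Nat.card H

/-- [EXA] for a prime power `m ≡ 1 (mod p)` there is a non-`p`-closed group of order `p m`. -/
def ExA : Prop := ∀ (p : ℕ) [Fact p.Prime] (m : ℕ), IsPrimePow m → m % p = 1 →
  ∃ (H : Type) (_ : Group H) (_ : Finite H), Nat.card H = p * m ∧ ¬ Cfsg.IsPClosed p H

/-- [EXB] for `p ≥ 5` there is a non-`p`-closed group of order `p (p² - 1) / 2`
(namely `PSL(2, p)`). -/
def ExB : Prop := ∀ (p : ℕ) [Fact p.Prime], 5 ≤ p →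
  ∃ (H : Type) (_ : Group H) (_ : Finite H),
    Nat.card H = p * (p ^ 2 - 1) / 2 ∧ ¬ Cfsg.IsPClosed p H

end Cfsg.Agent.Lib.Helper15.NpcStmt
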