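import Mathlib

/-!
# Groups with abelian Sylow subgroups (A-groups)

* `AGrp N`: every `p`-subgroup of `N` is abelian (equivalently, for finite `N`, every Sylow
  subgroup is abelian).
* `AGrp.of_sylow`, `AGrp.of_injective`, `AGrp.of_surjective`: closure properties.
* `AGrp.taunt`: in a finite A-group the centre meets the commutator subgroup trivially.
-/

set_option autoImplicit false

namespace Cfsg.Agent.Lib.Helper15.AGroup

/-- Every `p`-subgroup is abelian. -/
def AGrp (N : Type*) [Group N] : Prop :=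
  ∀ (p : ℕ) [Fact p.Prime] (Q : Subgroup N), IsPGroup p Q → ∀ a ∈ Q, ∀ b ∈ Q, a * b = b * a

theorem AGrp.of_sylow {N : Type*} [Group N] [Finite N]
    (h : ∀ (p : ℕ) [Fact p.Prime] (P : Sylow p N), ∀ a ∈ P, ∀ b ∈ P, a * b = b * a) : AGrp N := by
  intro p _ Q hQ a ha b hb
  obtain ⟨P, hP⟩ := hQ.exists_le_sylow
  exact h p P a (hP ha) b (hP hb)

theorem AGrp.of_injective {M N : Type*} [Group M] [Group N] (f : M →* N)
    (hf : Function.Injective f) (h : AGrp N) : AGrp M := by
  intro p _ Q hQ a ha b hb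
  apply hf
  rw [map_mul, map_mul]
  exact h p (Q.map f) (hQ.map f) (f a) (Subgroup.mem_map_of_mem f ha) (f b)
    (Subgroup.mem_map_of_mem f hb)

theorem AGrp.of_surjective {N Q : Type*} [Group N] [Group Q] [Finite N] (f : N →* Q)
    (hf : Function.Surjective f) (h : AGrp N) : AGrp Q := by
  intro p _ Q₀ hQ₀ a ha b hb
  have : Finite Q := Finite.of_surjective f hf
  obtain ⟨P', hP'⟩ := hQ₀.exists_le_sylow
  obtain ⟨P, rfl⟩ := Sylow.mapSurjective_surjective hf p P'
  have ha' : a ∈ (P : Subgroup N).map f := by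
    have := hP' ha
    rwa [Sylow.coe_mapSurjective] at this
  have hb' : b ∈ (P : Subgroup N).map f := by
    have := hP' hb
    rwa [Sylow.coe_mapSurjective] at this
  obtain ⟨x, hx, rfl⟩ := ha'
  obtain ⟨y, hy, rfl⟩ := hb'
  rw [← map_mul, ← map_mul, h p (P : Subgroup N) P.2 x hx y hy]

open scoped IsMulCommutative in
/-- Taunt's lemma: in a finite group with abelian Sylow subgroups, the centre and the commutator
subgroup intersect trivially. -/
theorem AGrp.taunt {N : Type*} [Group N] [Finite N] (h : AGrp N) {z : N}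
    (hz : z ∈ Subgroup.center N) (hz' : z ∈ commutator N) : z = 1 := by
  by_contra hne
  have hord : orderOf z ≠ 1 := fun h1 => hne (orderOf_eq_one_iff.mp h1)
  obtain ⟨p, hp, hpd⟩ := Nat.exists_prime_and_dvd hord
  have : Fact p.Prime := ⟨hp⟩
  obtain ⟨k, hk⟩ := hpd
  set w := z ^ k with hw
  have hwc : w ∈ Subgroup.center N := Subgroup.pow_mem _ hz k
  have hwd : w ∈ commutator N := Subgroup.pow_mem _ hz' k
  have hkpos : 0 < k := by
    rcases Nat.eq_zero_or_pos k with h0 | h0
    · rw [h0, mul_zero] at hk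
      exact absurd hk (orderOf_pos z).ne'
    · exact h0
  have hwo : orderOf w = p := by
    rw [hw, orderOf_pow' z hkpos.ne', hk, Nat.gcd_eq_right (Dvd.intro_left p rfl),
      Nat.mul_div_cancel _ hkpos]
  have hpg : IsPGroup p (Subgroup.zpowers w) := by
    rw [IsPGroup.iff_card, Nat.card_zpowers, hwo]
    exact ⟨1, (pow_one p).symm⟩
  obtain ⟨P, hP⟩ := hpg.exists_le_sylow
  have hwP : w ∈ (P : Subgroup N) := hP (Subgroup.mem_zpowers w)
  have : IsMulCommutative (P : Subgroup N) :=
    ⟨⟨fun a b => Subtype.ext (h p (P : Subgroup N) P.2 a a.2 b b.2)⟩⟩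
  have key : ∀ (k : ℕ) (g₀ : N), g₀⁻¹ * w ^ k * g₀ ∈ (P : Subgroup N) →
      g₀⁻¹ * w ^ k * g₀ = w ^ k := by
    intro k g₀ _
    have hc : w ^ k ∈ Subgroup.center N := Subgroup.pow_mem _ hwc k
    rw [mul_assoc, ← (Subgroup.mem_center_iff.mp hc g₀), inv_mul_cancel_left]
  have h1 := MonoidHom.transfer_eq_pow (A := (P : Subgroup N)) (MonoidHom.id (P : Subgroup N)) w key
  have h2 : MonoidHom.transfer (A := (P : Subgroup N)) (MonoidHom.id (P : Subgroup N)) w = 1 := by
    have := Abelianization.commutator_subset_ker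
      (MonoidHom.transfer (A := (P : Subgroup N)) (MonoidHom.id (P : Subgroup N))) hwd
    exact this
  rw [h2] at h1
  have h3 : w ^ (P : Subgroup N).index = 1 := by
    have := congrArg Subtype.val h1
    simpa using this.symm
  have h4 : p ∣ (P : Subgroup N).index := by
    have h5 := orderOf_dvd_of_pow_eq_one h3
    rwa [hwo] at h5
  exact P.not_dvd_index h4

end Cfsg.Agent.Lib.Helper15.AGroup
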