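import Mathlib
import Cfsg.Agent.Lib.Helper32.D8Stmt

/-! S3716 piece OMEGA2: the linear characters `f, g` of `C_G(x)` exist (from the normal form). -/

set_option autoImplicit false
universe u

namespace Cfsg.Agent.Lib.Helper15.D8OMEGA2

open Cfsg Cfsg.Agent.Lib.Helper32.D8Stmt

theorem exists_zeta : ∃ ζ : ℂˣ, ζ ^ 3 = 1 ∧ ζ ≠ 1 := by
  obtain ⟨z, hz⟩ : ∃ z : ℂ, IsPrimitiveRoot z 3 := ⟨_, Complex.isPrimitiveRoot_exp 3 (by norm_num)⟩
  have hu : IsUnit z := hz.isUnit (by norm_num)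
  refine ⟨hu.unit, ?_, ?_⟩
  · apply Units.ext
    rw [Units.val_pow_eq_pow_val, IsUnit.unit_spec, hz.pow_eq_one]; rfl
  · intro h
    have h1 : ((hu.unit : ℂˣ) : ℂ) = 1 := by rw [h]; rfl
    rw [IsUnit.unit_spec] at h1
    exact hz.ne_one (by norm_num) h1

theorem main (hNF : NF.{u}) : OMEGA2.{u} := by
  intro G _ _ T N x y a b w hC
  obtain ⟨-, -, h3, h4, h5, -, -⟩ := hNF hC
  have e3 : ∀ i j l i' j' l' : ℕ, x ^ i * y ^ j * b ^ l = x ^ i' * y ^ j' * b ^ l' →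
      i % 3 = i' % 3 ∧ l % 2 = l' % 2 := by
    intro i j l i' j' l' h
    have := h3 i j 0 l 0 i' j' 0 l' 0 (by simpa using h)
    exact ⟨this.1, this.2.2.2.1⟩
  have m3 : ∀ i j l i' j' l' : ℕ, (x ^ i * y ^ j * b ^ l) * (x ^ i' * y ^ j' * b ^ l') =
      x ^ (i + i') * y ^ (j + (if l % 2 = 0 then j' else 2 * j')) * b ^ (l + l') := by
    intro i j l i' j' l'
    have := h4 i j 0 l 0 i' j' 0 l' 0
    simpa using this
  choose ei ej el hrep using fun c : Subgroup.centralizer ({x} : Set G) => (h5 c.1).mp c.2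
  have key : ∀ (c : Subgroup.centralizer ({x} : Set G)) (i0 j0 l0 : ℕ),
      c.1 = x ^ i0 * y ^ j0 * b ^ l0 → ei c % 3 = i0 % 3 ∧ el c % 2 = l0 % 2 :=
    fun c i0 j0 l0 h => e3 _ _ _ _ _ _ ((hrep c).symm.trans h)
  have hmul : ∀ c c' : Subgroup.centralizer ({x} : Set G),
      ei (c * c') % 3 = (ei c + ei c') % 3 ∧ el (c * c') % 2 = (el c + el c') % 2 := by
    intro c c'
    apply key (c * c') (ei c + ei c') (ej c + (if el c % 2 = 0 then ej c' else 2 * ej c'))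
      (el c + el c')
    rw [← m3, ← hrep c, ← hrep c']
    rfl
  obtain ⟨ζ, hζ3, hζ1⟩ := exists_zeta
  have hneg : ((-1 : ℂˣ)) ^ 2 = 1 := by norm_num
  refine ⟨MonoidHom.mk' (fun c => ζ ^ ei c) ?_, MonoidHom.mk' (fun c => (-1 : ℂˣ) ^ el c) ?_, ?_⟩
  · intro c c'
    show ζ ^ ei (c * c') = ζ ^ ei c * ζ ^ ei c'
    rw [← pow_add, pow_eq_pow_mod (ei (c * c')) hζ3, (hmul c c').1, ← pow_eq_pow_mod _ hζ3]
  · intro c c'
    show (-1 : ℂˣ) ^ el (c * c') = (-1 : ℂˣ) ^ el c * (-1 : ℂˣ) ^ el c'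
    rw [← pow_add, pow_eq_pow_mod (el (c * c')) hneg, (hmul c c').2, ← pow_eq_pow_mod _ hneg]
  · constructor
    · intro h
      show ζ ^ ei ⟨x, h⟩ ≠ 1
      rw [pow_eq_pow_mod _ hζ3, (key ⟨x, h⟩ 1 0 0 (by simp)).1]
      simpa using hζ1
    · intro h
      show ζ ^ ei ⟨y, h⟩ = 1
      rw [pow_eq_pow_mod _ hζ3, (key ⟨y, h⟩ 0 1 0 (by simp)).1]
      simp
    · intro h
      show ζ ^ ei ⟨b, h⟩ = 1
      rw [pow_eq_pow_mod _ hζ3, (key ⟨b, h⟩ 0 0 1 (by simp)).1]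
      simp
    · intro h
      show (-1 : ℂˣ) ^ el ⟨x, h⟩ = 1
      rw [pow_eq_pow_mod _ hneg, (key ⟨x, h⟩ 1 0 0 (by simp)).2]
      simp
    · intro h
      show (-1 : ℂˣ) ^ el ⟨y, h⟩ = 1
      rw [pow_eq_pow_mod _ hneg, (key ⟨y, h⟩ 0 1 0 (by simp)).2]
      simp
    · intro h
      show (-1 : ℂˣ) ^ el ⟨b, h⟩ = -1
      rw [pow_eq_pow_mod _ hneg, (key ⟨b, h⟩ 0 0 1 (by simp)).2]
      simp

end Cfsg.Agent.Lib.Helper15.D8OMEGA2
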