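import Mathlib
import Cfsg.Agent.Lib.Helper74.DixStmt

/-!
# S4472 / GRPB (call by helper74)

The group `L = K P₀` (`K` a `p'`-group normalized by the `p`-group `P₀`): `K ⊴ L` of `p`-power
index, and a normal subgroup `N` of `L` meeting `K` trivially is a `p`-group inside
`P₀ ⊓ C(K)`, whence the bound on the `p`-part of its index.
-/

set_option autoImplicit false
set_option maxHeartbeats 400000

universe u

namespace Cfsg.Agent.Lib.Helper15.DixGRPB

open Cfsg Cfsg.Agent.Lib.Helper74.DixStmt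

theorem main : GrpB.{u} := by
  intro G _ _ p _ K P₀ hcop hP hPn
  classical
  have hp : p.Prime := Fact.out
  obtain ⟨L, hL⟩ : ∃ L : Subgroup G, L = K ⊔ P₀ := ⟨_, rfl⟩
  have hKL : K ≤ L := by rw [hL]; exact le_sup_left
  have hPL : P₀ ≤ L := by rw [hL]; exact le_sup_right
  have hLn : L ≤ Subgroup.normalizer (K : Set G) := by
    rw [hL]
    have h1 : K ≤ Subgroup.normalizer (K : Set G) := Subgroup.le_normalizer
    exact sup_le h1 hPn
  have hKn : (K.subgroupOf L).Normal :=
    (Subgroup.normal_subgroupOf_iff_le_normalizer hKL).mpr hLn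
  have hsup : K.subgroupOf L ⊔ P₀.subgroupOf L = ⊤ := by
    rw [← Subgroup.subgroupOf_sup hKL hPL, ← hL]
    exact Subgroup.subgroupOf_eq_top.mpr le_rfl
  have hdec : ∀ l : ↥L, ∃ k ∈ K.subgroupOf L, ∃ x ∈ P₀.subgroupOf L, k * x = l := by
    intro l
    have hmem : l ∈ K.subgroupOf L ⊔ P₀.subgroupOf L := by
      rw [hsup]
      exact Subgroup.mem_top l
    exact Subgroup.mem_sup_of_normal_left.mp hmem
  have hP' : IsPGroup p ↥(P₀.subgroupOf L) :=
    hP.of_injective (Subgroup.subgroupOfEquivOfLe hPL).toMonoidHom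
      (Subgroup.subgroupOfEquivOfLe hPL).injective
  obtain ⟨f, hf⟩ : ∃ f : ↥(P₀.subgroupOf L) →* ↥L ⧸ K.subgroupOf L,
      f = (QuotientGroup.mk' (K.subgroupOf L)).comp (P₀.subgroupOf L).subtype := ⟨_, rfl⟩
  have hfsurj : Function.Surjective f := by
    intro q
    obtain ⟨l, rfl⟩ := QuotientGroup.mk_surjective q
    obtain ⟨k, hk, x, hx, rfl⟩ := hdec l
    refine ⟨⟨x, hx⟩, ?_⟩
    rw [hf]
    show ((x : ↥L) : ↥L ⧸ K.subgroupOf L) = ((k * x : ↥L) : ↥L ⧸ K.subgroupOf L)
    rw [QuotientGroup.mk_mul, (QuotientGroup.eq_one_iff k).mpr hk, one_mul]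
  have hQp : IsPGroup p (↥L ⧸ K.subgroupOf L) := hP'.of_surjective f hfsurj
  obtain ⟨m, hm⟩ := IsPGroup.iff_card.mp hQp
  have hidx : (K.subgroupOf L).index = p ^ m := by
    rw [Subgroup.index_eq_card]
    exact hm
  obtain ⟨a, ha⟩ := IsPGroup.iff_card.mp hP
  have hcardP' : Nat.card ↥(P₀.subgroupOf L) = p ^ a := by
    rw [← ha]
    exact Nat.card_congr (Subgroup.subgroupOfEquivOfLe hPL).toEquiv
  have hcardK' : Nat.card ↥(K.subgroupOf L) = Nat.card K :=
    Nat.card_congr (Subgroup.subgroupOfEquivOfLe hKL).toEquiv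
  have hma : m ≤ a := by
    have h1 : Nat.card (↥L ⧸ K.subgroupOf L) ≤ Nat.card ↥(P₀.subgroupOf L) :=
      Nat.card_le_card_of_surjective f hfsurj
    rw [hm, hcardP'] at h1
    exact (Nat.pow_le_pow_iff_right hp.one_lt).mp h1
  have hcardL : Nat.card ↥L = Nat.card K * p ^ m := by
    rw [← hcardK', ← hidx]
    exact (Subgroup.card_mul_index (K.subgroupOf L)).symm
  have hSyl : ¬ p ∣ (P₀.subgroupOf L).index := by
    intro hdvd
    have h1 := Subgroup.card_mul_index (P₀.subgroupOf L)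
    rw [hcardP', hcardL] at h1
    have h2 : p ^ m * (p ^ (a - m) * (P₀.subgroupOf L).index) = p ^ m * Nat.card K := by
      rw [← mul_assoc, ← pow_add, Nat.add_sub_cancel' hma, h1, mul_comm]
    have h3 : p ^ (a - m) * (P₀.subgroupOf L).index = Nat.card K :=
      Nat.eq_of_mul_eq_mul_left (pow_pos hp.pos m) h2
    have h4 : p ∣ Nat.card K := by
      rw [← h3]
      exact Dvd.dvd.mul_left hdvd _
    exact (Nat.Prime.coprime_iff_not_dvd hp).mp hcop.symm h4
  refine ⟨L, hKL, hKn, ⟨m, hidx⟩, ?_⟩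
  intro N hNn hNK
  have hNp : IsPGroup p ↥N := by
    apply hQp.of_injective ((QuotientGroup.mk' (K.subgroupOf L)).comp N.subtype)
    refine (injective_iff_map_eq_one _).mpr ?_
    intro n hn
    have h1 : ((n : ↥L) : ↥L ⧸ K.subgroupOf L) = 1 := hn
    rw [QuotientGroup.eq_one_iff] at h1
    have h2 : (n : ↥L) ∈ N ⊓ K.subgroupOf L := ⟨n.2, h1⟩
    rw [hNK, Subgroup.mem_bot] at h2
    exact Subtype.ext h2
  have hNP : N ≤ P₀.subgroupOf L := by
    have := hNn
    exact hNp.le_sylow_of_normal (hP'.toSylow hSyl)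
  have hNc : ∀ n ∈ N, ∀ k ∈ K.subgroupOf L, k * n = n * k := by
    intro n hn k hk
    have h1 : n * k * n⁻¹ * k⁻¹ ∈ N ⊓ K.subgroupOf L := by
      refine ⟨?_, ?_⟩
      · have h0 : n * k * n⁻¹ * k⁻¹ = n * (k * n⁻¹ * k⁻¹) := by group
        rw [h0]
        exact N.mul_mem hn (hNn.conj_mem _ (N.inv_mem hn) k)
      · exact (K.subgroupOf L).mul_mem (hKn.conj_mem _ hk n) ((K.subgroupOf L).inv_mem hk)
    rw [hNK, Subgroup.mem_bot] at h1
    have h2 : n * k * n⁻¹ * k⁻¹ * (k * n) = k * n := by rw [h1, one_mul]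
    rw [← h2]
    group
  have hmap : N.map L.subtype ≤ P₀ ⊓ Subgroup.centralizer (K : Set G) := by
    rintro _ ⟨n, hn, rfl⟩
    refine Subgroup.mem_inf.mpr ⟨Subgroup.mem_subgroupOf.mp (hNP hn), ?_⟩
    show (n : G) ∈ Subgroup.centralizer (K : Set G)
    rw [Subgroup.mem_centralizer_iff]
    intro k hk
    have h1 := hNc n hn ⟨k, hKL hk⟩ (Subgroup.mem_subgroupOf.mpr hk)
    exact congrArg Subtype.val h1
  have hcardN : Nat.card ↥N = Nat.card ↥(N.map L.subtype) :=
    (Subgroup.card_map_of_injective L.subtype_injective).symm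
  have hN_dvd : Nat.card ↥N ∣
      Nat.card ↥(P₀ ⊓ Subgroup.centralizer (K : Set G) : Subgroup G) := by
    rw [hcardN]
    exact Subgroup.card_dvd_of_le hmap
  have hcR : Nat.card ↥(P₀ ⊓ Subgroup.centralizer (K : Set G) : Subgroup G) *
      (P₀ ⊓ Subgroup.centralizer (K : Set G)).relIndex P₀ = p ^ a := by
    rw [← ha]
    calc Nat.card ↥(P₀ ⊓ Subgroup.centralizer (K : Set G) : Subgroup G) *
          (P₀ ⊓ Subgroup.centralizer (K : Set G)).relIndex P₀
        = Nat.card ↥((P₀ ⊓ Subgroup.centralizer (K : Set G)).subgroupOf P₀) *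
          ((P₀ ⊓ Subgroup.centralizer (K : Set G)).subgroupOf P₀).index := by
          rw [Nat.card_congr (Subgroup.subgroupOfEquivOfLe
            (inf_le_left : P₀ ⊓ Subgroup.centralizer (K : Set G) ≤ P₀)).toEquiv]
          rfl
      _ = Nat.card ↥P₀ := Subgroup.card_mul_index _
  have hNL := Subgroup.card_mul_index N
  have hA_dvd : p ^ a ∣ Nat.card ↥L := by
    rw [← hcardP']
    exact Subgroup.card_subgroup_dvd_card (P₀.subgroupOf L)
  have hc0 : Nat.card ↥(P₀ ⊓ Subgroup.centralizer (K : Set G) : Subgroup G) ≠ 0 :=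
    Nat.card_pos.ne'
  have hR0 : (P₀ ⊓ Subgroup.centralizer (K : Set G)).relIndex P₀ ≠ 0 := by
    intro h
    rw [h, mul_zero] at hcR
    exact (pow_pos hp.pos a).ne' hcR.symm
  have hnN0 : Nat.card ↥N ≠ 0 := Nat.card_pos.ne'
  have hcL0 : Nat.card ↥L ≠ 0 := Nat.card_pos.ne'
  have hiN0 : N.index ≠ 0 := by
    intro h
    rw [h, mul_zero] at hNL
    exact hcL0 hNL.symm
  have e1 : (Nat.card ↥(P₀ ⊓ Subgroup.centralizer (K : Set G) : Subgroup G)).factorization p +
      ((P₀ ⊓ Subgroup.centralizer (K : Set G)).relIndex P₀).factorization p = a := by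
    have h : (Nat.card ↥(P₀ ⊓ Subgroup.centralizer (K : Set G) : Subgroup G) *
        (P₀ ⊓ Subgroup.centralizer (K : Set G)).relIndex P₀).factorization p =
        (p ^ a).factorization p := by rw [hcR]
    rw [Nat.factorization_mul hc0 hR0, Finsupp.add_apply, Nat.factorization_pow_self hp] at h
    exact h
  have e2 : (Nat.card ↥N).factorization p + N.index.factorization p =
      (Nat.card ↥L).factorization p := by
    have h : (Nat.card ↥N * N.index).factorization p = (Nat.card ↥L).factorization p := by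
      rw [hNL]
    rw [Nat.factorization_mul hnN0 hiN0, Finsupp.add_apply] at h
    exact h
  have e3 : (Nat.card ↥N).factorization p ≤
      (Nat.card ↥(P₀ ⊓ Subgroup.centralizer (K : Set G) : Subgroup G)).factorization p :=
    (Nat.factorization_le_iff_dvd hnN0 hc0).mpr hN_dvd p
  have e4 : a ≤ (Nat.card ↥L).factorization p := by
    have h := (Nat.factorization_le_iff_dvd (pow_pos hp.pos a).ne' hcL0).mpr hA_dvd p
    rw [Nat.factorization_pow_self hp] at h
    exact h
  omega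

end Cfsg.Agent.Lib.Helper15.DixGRPB
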