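import Mathlib
import Cfsg.Agent.Lib.Helper45.EPStmt
import Cfsg.Agent.Lib.Helper44.TPStmt
import Cfsg.Agent.Lib.Helper15.TPBADA

/-!
# S5988 / B2E (call by helper45; second seat helper15)

If `CondE` fails and `AE` holds, the element of `TPStmt.EltDim` with `(2d) / c` blocks fixes no
elliptic `m`-space.
-/

set_option autoImplicit false
set_option maxHeartbeats 800000

universe u

open scoped Matrix

namespace Cfsg.Agent.Lib.Helper15.EPB2E

open Cfsg.Agent.Lib.Helper45.EPStmt
open Cfsg.Agent.Lib.Helper37.HypStmt (cc IPos)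
open Cfsg.Agent.Lib.Helper94.OPStmt (P NP FxP NDegP StabP)
open Cfsg.Agent.Lib.Helper44.TPStmt (J Fx NDeg Stab TSub Plus EltDim FxType HalfOdd TypeEven
  Cancel OrthSum Top Perp)

/-- the arithmetic core -/
theorem arith (d m i : ℕ) (hi : 0 < i) (hm2 : 2 ≤ m) (hmd : m < d) (hAE : AE d m i)
    (he : m % cc i ≤ (2 * d) % cc i)
    (hodd : Odd i → 0 < m % cc i ∧ m % cc i < (2 * d) % cc i)
    (hev0 : Even i → m % cc i = 0 → Odd (m / i))
    (hevk : Even i → m % cc i = (2 * d) % cc i → 0 < (2 * d) % cc i → Odd ((2 * d - m) / i)) :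
    CondE d m i := by
  unfold AE at hAE
  obtain ⟨hcle, hAE2⟩ := hAE
  rcases Nat.even_or_odd i with heven | hodd'
  · have hc : cc i = i := by unfold cc; rw [if_pos heven]
    rw [hc] at hAE2 he hev0 hevk hcle
    unfold CondE
    rw [hc]
    right
    refine ⟨heven, ?_⟩
    rcases Nat.eq_zero_or_pos (m % i) with h0 | hpos
    · have hoddmi := hev0 heven h0
      rcases Nat.eq_zero_or_pos ((2 * d) % i) with hk0 | hkpos
      · left
        exact ⟨hk0, Or.inr ⟨h0, hoddmi⟩⟩
      · right
        refine ⟨?_, Or.inr (Or.inr ⟨h0, hkpos, hoddmi⟩)⟩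
        exact Nat.le_of_dvd (by omega) (Nat.dvd_of_mod_eq_zero h0)
    · have hile : i ≤ m := by
        by_contra hlt
        have hlt' : m < i := by omega
        have hmm : m % i = m := Nat.mod_eq_of_lt hlt'
        rcases hAE2 with h | h | ⟨h1, h2⟩
        · omega
        · omega
        · have h3 := hevk heven (by omega) (by omega)
          apply h2
          refine ⟨heven, ?_⟩
          have h4 := Nat.div_add_mod (2 * d) i
          have h5 : 2 * d - m = i * (2 * d / i) := by omega
          rw [h5, Nat.mul_div_cancel_left _ hi] at h3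
          exact h3
      right
      refine ⟨hile, ?_⟩
      rcases Nat.lt_or_ge (m % i) ((2 * d) % i) with hlt | hge
      · left
        exact ⟨hpos, hlt⟩
      · have hek : m % i = (2 * d) % i := le_antisymm he hge
        right
        left
        refine ⟨hpos, hek, ?_⟩
        have h3 := hevk heven hek (by omega)
        have h4 := Nat.div_add_mod (2 * d) i
        have h6 := Nat.div_add_mod m i
        have hlt : i * (m / i) < i * (2 * d / i) := by omega
        have hμ : m / i < 2 * d / i := Nat.lt_of_mul_lt_mul_left hlt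
        have h5 : 2 * d - m = i * (2 * d / i - m / i) := by
          rw [Nat.mul_sub]
          omega
        have h7 : 2 * d + m - 2 * ((2 * d) % i) = i * (2 * d / i + m / i) := by
          rw [Nat.mul_add]
          omega
        rw [h5, Nat.mul_div_cancel_left _ hi] at h3
        rw [h7, Nat.mul_div_cancel_left _ hi]
        obtain ⟨t, ht⟩ := h3
        exact ⟨t + m / i, by omega⟩
  · obtain ⟨hpos, hlt⟩ := hodd hodd'
    unfold CondE
    left
    refine ⟨hodd', ?_, hpos, hlt⟩
    by_contra hcm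
    have hcm' : m < cc i := by omega
    have hmm : m % cc i = m := Nat.mod_eq_of_lt hcm'
    rcases hAE2 with h | h | ⟨h1, h2⟩ <;> omega

/-- orthogonal sum of two plus-type spaces is of plus type -/
theorem plus_sup (hOS : OrthSum.{u}) {F : Type u} [Field F] [Fintype F] (d : ℕ)
    (A B : Submodule F (J d → F)) (hA : NDeg d F A) (hB : NDeg d F B)
    (horth : ∀ u ∈ A, ∀ v ∈ B, QuadraticMap.polar (Cfsg.quadFormPlus d F) u v = 0)
    (hPA : Plus d F A) (hPB : Plus d F B) : Plus d F (A ⊔ B) := by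
  obtain ⟨-, hAB, hdim⟩ := hOS F d A B hA hB horth
  obtain ⟨U₁, hU₁, hts₁, hd₁⟩ := hPA
  obtain ⟨U₂, hU₂, hts₂, hd₂⟩ := hPB
  refine ⟨U₁ ⊔ U₂, sup_le_sup hU₁ hU₂, ?_, ?_⟩
  · intro w hw
    obtain ⟨u₁, hu₁, u₂, hu₂, rfl⟩ := Submodule.mem_sup.mp hw
    have h1 := horth u₁ (hU₁ hu₁) u₂ (hU₂ hu₂)
    have h2 := hts₁ u₁ hu₁
    have h3 := hts₂ u₂ hu₂
    unfold QuadraticMap.polar at h1
    rw [h2, h3, sub_zero, sub_zero] at h1
    exact h1
  · have h1 := Submodule.finrank_sup_add_finrank_inf_eq U₁ U₂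
    have h2 : U₁ ⊓ U₂ = ⊥ := by
      rw [eq_bot_iff, ← hAB]
      exact inf_le_inf hU₁ hU₂
    rw [h2, finrank_bot, add_zero] at h1
    rw [h1, hdim]
    omega

theorem main (hIPos : IPos.{u}) (hED : EltDim.{u}) (hFT : FxType.{u}) (hHO : HalfOdd.{u})
    (hTE : TypeEven.{u}) (hCan : Cancel.{u}) (hOS : OrthSum.{u}) (hTop : Top.{u})
    (hPerp : Perp.{u}) (hDO : DimObsA.{u}) (hSp : SplitE.{u}) : B2E.{u} := by
  intro F _ _ p _ _ d m hd hm2 hmev hmd r _ hr2 hrp hAE hnC
  classical
  have hi : 0 < orderOf ((Fintype.card F : ℕ) : ZMod r) := hIPos F p r hrp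
  have hcpos : 0 < cc (orderOf ((Fintype.card F : ℕ) : ZMod r)) := by
    unfold cc
    split_ifs <;> omega
  have hcle : cc (orderOf ((Fintype.card F : ℕ) : ZMod r)) ≤ 2 * d := hAE.1
  have hdm := Nat.div_add_mod' (2 * d) (cc (orderOf ((Fintype.card F : ℕ) : ZMod r)))
  have hklt := Nat.mod_lt (2 * d) hcpos
  have hb1 : 1 ≤ 2 * d / cc (orderOf ((Fintype.card F : ℕ) : ZMod r)) := Nat.div_pos hcle hcpos
  have hble : (2 * d / cc (orderOf ((Fintype.card F : ℕ) : ZMod r))) *
      cc (orderOf ((Fintype.card F : ℕ) : ZMod r)) ≤ 2 * d := Nat.div_mul_le_self _ _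
  have htype : (2 * d / cc (orderOf ((Fintype.card F : ℕ) : ZMod r))) *
      cc (orderOf ((Fintype.card F : ℕ) : ZMod r)) = 2 * d →
      Odd (orderOf ((Fintype.card F : ℕ) : ZMod r)) ∨
        Even (2 * d / cc (orderOf ((Fintype.card F : ℕ) : ZMod r))) := by
    intro hbc
    rcases Nat.even_or_odd (orderOf ((Fintype.card F : ℕ) : ZMod r)) with heven | hodd
    · right
      have hc : cc (orderOf ((Fintype.card F : ℕ) : ZMod r)) =
          orderOf ((Fintype.card F : ℕ) : ZMod r) := by unfold cc; rw [if_pos heven]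
      by_contra hne
      apply hnC
      unfold CondE
      right
      refine ⟨heven, Or.inl ⟨?_, Or.inl ?_⟩⟩
      · omega
      · rw [hc] at hne
        exact Nat.not_even_iff_odd.mp hne
    · left
      exact hodd
  obtain ⟨x, hxO, hxr, hxF⟩ := hED F p d (by omega) r hr2 hrp _ hb1 hble htype
  have hxF' : Module.finrank F ↥(Fx (x : Matrix (J d) (J d) F)) =
      (2 * d) % cc (orderOf ((Fintype.card F : ℕ) : ZMod r)) := by omega
  have hx1 : x ≠ 1 := by
    rintro rfl
    have h1 : Fx ((1 : Matrix.GeneralLinearGroup (J d) F) : Matrix (J d) (J d) F) = ⊤ := by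
      unfold Fx
      rw [Units.val_one, Matrix.toLin'_one, sub_self, LinearMap.ker_zero]
    rw [h1, finrank_top, Module.finrank_fintype_fun_eq_card] at hxF'
    simp only [Fintype.card_sum, Fintype.card_fin] at hxF'
    omega
  have hxord : orderOf x = r := orderOf_eq_prime hxr hx1
  refine ⟨x, hxO, hxord, ?_⟩
  intro W hW hSt
  obtain ⟨hWm, hWnd, hWnp⟩ := hW
  have hxI := Cfsg.Agent.Lib.Helper15.TPBADA.mem_iso_of_mem_omega x hxO
  have hdvd := hDO F p d r hr2 hrp x hxI hxr W hSt hWnd
  obtain ⟨hFnd, R, hRW, hRst, hRnd, hRF, hRorth, hRdim, hRsup⟩ :=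
    hSp F p d r hrp x hxI hxr W hSt hWnd
  have hFxeq : FxP (x : Matrix (P d) (P d) F) = Fx (x : Matrix (J d) (J d) F) := rfl
  rw [hFxeq] at hdvd hFnd hRF hRorth hRdim hRsup
  have he_le_k : Module.finrank F ↥(W ⊓ Fx (x : Matrix (J d) (J d) F)) ≤
      (2 * d) % cc (orderOf ((Fintype.card F : ℕ) : ZMod r)) := by
    rw [← hxF']
    exact Submodule.finrank_mono inf_le_right
  have he_le_m : Module.finrank F ↥(W ⊓ Fx (x : Matrix (J d) (J d) F)) ≤ m := by
    rw [← hWm]
    exact Submodule.finrank_mono inf_le_left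
  have he : m % cc (orderOf ((Fintype.card F : ℕ) : ZMod r)) =
      Module.finrank F ↥(W ⊓ Fx (x : Matrix (J d) (J d) F)) := by
    rw [hWm] at hdvd
    obtain ⟨t, ht⟩ := hdvd
    have h1 : m = cc (orderOf ((Fintype.card F : ℕ) : ZMod r)) * t +
        Module.finrank F ↥(W ⊓ Fx (x : Matrix (J d) (J d) F)) := by omega
    have h2 : (cc (orderOf ((Fintype.card F : ℕ) : ZMod r)) * t +
        Module.finrank F ↥(W ⊓ Fx (x : Matrix (J d) (J d) F))) %
        cc (orderOf ((Fintype.card F : ℕ) : ZMod r)) =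
        Module.finrank F ↥(W ⊓ Fx (x : Matrix (J d) (J d) F)) := by
      rw [Nat.mul_add_mod]
      exact Nat.mod_eq_of_lt (by omega)
    rw [← h1] at h2
    exact h2
  apply hnC
  apply arith d m _ hi hm2 hmd hAE
  · rw [he]
    exact he_le_k
  · -- `i` odd
    intro hodd
    have hRplus : Plus d F R := by
      obtain ⟨U, hU, -, hts, h2⟩ := hHO F p d r hr2 hrp hodd x hxI hxr R hRst hRnd hRF
      exact ⟨U, hU, hts, h2⟩
    have hFplus : Plus d F (Fx (x : Matrix (J d) (J d) F)) :=
      (hFT F p d r hr2 hrp x hxI hxr).mpr (Or.inl hodd)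
    rw [he]
    constructor
    · by_contra h0
      have h0' : Module.finrank F ↥(W ⊓ Fx (x : Matrix (J d) (J d) F)) = 0 := by omega
      have hbot : W ⊓ Fx (x : Matrix (J d) (J d) F) = ⊥ := Submodule.finrank_eq_zero.mp h0'
      rw [hbot, bot_sup_eq] at hRsup
      rw [hRsup] at hRplus
      exact hWnp hRplus
    · by_contra hlt
      have hek : Module.finrank F ↥(W ⊓ Fx (x : Matrix (J d) (J d) F)) =
          Module.finrank F ↥(Fx (x : Matrix (J d) (J d) F)) := by rw [hxF']; omega
      have hFW : W ⊓ Fx (x : Matrix (J d) (J d) F) = Fx (x : Matrix (J d) (J d) F) :=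
        Submodule.eq_of_le_of_finrank_eq inf_le_right hek
      rw [hFW] at hRsup hFnd
      have hplus : Plus d F (Fx (x : Matrix (J d) (J d) F) ⊔ R) :=
        plus_sup hOS d _ _ hFnd hRnd
          (fun u hu v hv => by rw [QuadraticMap.polar_comm]; exact hRorth v hv u hu)
          hFplus hRplus
      rw [hRsup] at hplus
      exact hWnp hplus
  · -- `i` even, `e = 0`
    intro heven h0
    rw [he] at h0
    have hbot : W ⊓ Fx (x : Matrix (J d) (J d) F) = ⊥ := Submodule.finrank_eq_zero.mp h0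
    have hT := hTE F p d r hr2 hrp heven x hxI hxr W hSt hWnd hbot
    rw [hWm] at hT
    exact Nat.not_even_iff_odd.mp (fun h => hWnp (hT.mpr h))
  · -- `i` even, `e = k > 0`
    intro heven hek hkpos
    rw [he] at hek
    have hek' : Module.finrank F ↥(W ⊓ Fx (x : Matrix (J d) (J d) F)) =
        Module.finrank F ↥(Fx (x : Matrix (J d) (J d) F)) := by rw [hxF']; exact hek
    have hFW : W ⊓ Fx (x : Matrix (J d) (J d) F) = Fx (x : Matrix (J d) (J d) F) :=
      Submodule.eq_of_le_of_finrank_eq inf_le_right hek'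
    have hFle : Fx (x : Matrix (J d) (J d) F) ≤ W := by
      rw [← hFW]
      exact inf_le_left
    obtain ⟨Y, hWY, hYnd, hWYbot, hdimY, hYst⟩ := hPerp F d W hWnd
    have hYstab := hYst x hxI hSt
    have hYF : Y ⊓ Fx (x : Matrix (J d) (J d) F) = ⊥ := by
      rw [eq_bot_iff, ← hWYbot]
      exact fun v hv => ⟨hFle hv.2, hv.1⟩
    have hTY := hTE F p d r hr2 hrp heven x hxI hxr Y hYstab hYnd hYF
    have hsupYW : Y ⊔ W = ⊤ := by
      apply Submodule.eq_top_of_finrank_eq
      have h1 := Submodule.finrank_sup_add_finrank_inf_eq Y W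
      have h2 : Y ⊓ W = ⊥ := by rw [inf_comm]; exact hWYbot
      rw [h2, finrank_bot, add_zero] at h1
      rw [h1, Module.finrank_fintype_fun_eq_card]
      simp only [Fintype.card_sum, Fintype.card_fin]
      omega
    have hnotY : ¬ Plus d F Y := by
      intro hY
      apply hWnp
      have htop : Plus d F (Y ⊔ W) := by
        rw [hsupYW]
        exact (hTop F d).2
      exact hCan F d Y W hYnd hWnd
        (fun u hu v hv => by rw [QuadraticMap.polar_comm]; exact hWY v hv u hu) htop hY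
    have hoddY := Nat.not_even_iff_odd.mp (fun h => hnotY (hTY.mpr h))
    have h9 : Module.finrank F ↥W + Module.finrank F ↥Y = 2 * d := hdimY
    rw [hWm] at h9
    have hYdim : Module.finrank F ↥Y = 2 * d - m := by omega
    rw [hYdim] at hoddY
    exact hoddY

end Cfsg.Agent.Lib.Helper15.EPB2E
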