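import Mathlib
import Cfsg.Prelude.Def_FusionSystem
import Cfsg.Agent.Lib.Helper87.FSBasic
import Cfsg.Agent.Lib.Helper87.FSAlperin
import Cfsg.Agent.Lib.Helper88.AlpCentric
import Cfsg.Agent.Lib.Helper88.FCStmt

/-! Piece CGEN of S5293: a saturated fusion system is generated by its maps with centric
source. -/

set_option autoImplicit false

namespace Cfsg.Agent.Lib.Helper15.FCCGEN

open Cfsg Cfsg.FusionSystem Cfsg.Agent.Lib.Helper88.FCStmt
open Cfsg.Agent.Lib.Helper87.FSBasic

universe u

theorem main : CentGen.{u} := by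
  intro Ω _ T _ p _ hT E hE E' hE'
  refine Cfsg.Agent.Lib.Helper87.FSAlperin.alperin_induction hT E hE E' ?_
  intro Y hfa hrec IH α hα hr
  by_cases hc : E.IsCentric Y
  · exact hE' Y hc hα
  · obtain ⟨R, hYR, hlt, α', hα', hext⟩ :=
      Cfsg.Agent.Lib.Helper88.AlpCentric.extends_of_not_centric E hrec hα hr hc
    have h1 : α' ∈ E'.Hom R := IH R hlt hα'
    have h2 := restrict_mem E' h1 hYR
    have h3 : α'.comp (Subgroup.inclusion hYR) = α := by
      ext x
      exact hext x
    rw [← h3]
    exact h2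

end Cfsg.Agent.Lib.Helper15.FCCGEN
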