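import Mathlib
import Cfsg.Agent.Lib.Helper23.HNStmt

/-!
# S1438 / CONJK (call by helper23; second seat helper15)

An element of prime order `p` of `M` is `M`-conjugate into any `K ≤ M` of index prime to `p`
(Sylow).
-/

set_option autoImplicit false
set_option maxHeartbeats 400000

universe u

namespace Cfsg.Agent.Lib.Helper15.HNCONJK

open Cfsg.Agent.Lib.Helper23.HNStmt
open scoped Pointwise

theorem main : ConjHall.{u} := by
  intro G _ _ M K hKM x hxM p hp hxo hidx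
  classical
  have : Fact p.Prime := ⟨hp⟩
  obtain ⟨S₀⟩ : Nonempty (Sylow p ↥(K.subgroupOf M)) := inferInstance
  have hSp : IsPGroup p ↥((S₀ : Subgroup ↥(K.subgroupOf M)).map (K.subgroupOf M).subtype) :=
    S₀.isPGroup'.map _
  have hSidx : ¬ p ∣ ((S₀ : Subgroup ↥(K.subgroupOf M)).map (K.subgroupOf M).subtype).index := by
    rw [Subgroup.index_map_subtype]
    intro h
    rcases (Nat.Prime.dvd_mul hp).mp h with h1 | h1
    · exact S₀.not_dvd_index h1
    · exact hidx h1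
  obtain ⟨SS, hSS⟩ : ∃ SS : Sylow p ↥M, (SS : Subgroup ↥M) =
      (S₀ : Subgroup ↥(K.subgroupOf M)).map (K.subgroupOf M).subtype :=
    ⟨hSp.toSylow hSidx, rfl⟩
  have hzp : IsPGroup p ↥(Subgroup.zpowers (⟨x, hxM⟩ : ↥M)) := by
    apply IsPGroup.of_card (n := 1)
    rw [Nat.card_zpowers, pow_one, ← hxo]
    exact Subgroup.orderOf_mk x hxM
  obtain ⟨P, hP⟩ := hzp.exists_le_sylow
  obtain ⟨g, hg⟩ := MulAction.exists_smul_eq ↥M P SS
  have h1 : MulAut.conj g • (⟨x, hxM⟩ : ↥M) ∈ MulAut.conj g • (P : Subgroup ↥M) :=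
    Subgroup.smul_mem_pointwise_smul _ _ _ (hP (Subgroup.mem_zpowers _))
  rw [← Sylow.coe_subgroup_smul, hg, hSS] at h1
  obtain ⟨y, -, hy⟩ := h1
  have h2 : ((MulAut.conj g • (⟨x, hxM⟩ : ↥M) : ↥M) : G) ∈ K := by
    rw [← hy]
    exact Subgroup.mem_subgroupOf.mp y.2
  refine ⟨(g : G), g.2, ?_⟩
  simpa [MulAut.smul_def, MulAut.conj_apply] using h2

end Cfsg.Agent.Lib.Helper15.HNCONJK
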