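import Mathlib
import Cfsg.Agent.Lib.Helper23.HNStmt

/-!
# S1438 / HNU (call by helper23; second seat helper15)

In a nilpotent subgroup `N`, a Hall subgroup is determined by its order.
-/

set_option autoImplicit false
set_option maxHeartbeats 400000

universe u

namespace Cfsg.Agent.Lib.Helper15.HNHNU

open Cfsg.Agent.Lib.Helper23.HNStmt

/-- in a nilpotent group, a Hall subgroup `A` contains every Sylow `p`-subgroup, `p ∣ |A|` -/
theorem sylow_le {H : Type u} [Group H] [Finite H] (hnil : Group.IsNilpotent H)
    (A : Subgroup H) (hcop : (Nat.card A).Coprime A.index) (p : ℕ) [Fact p.Prime]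
    (hp : p ∣ Nat.card A) (P : Sylow p H) : (P : Subgroup H) ≤ A := by
  classical
  have hpp : p.Prime := Fact.out
  obtain ⟨Q⟩ : Nonempty (Sylow p ↥A) := inferInstance
  have hQp : IsPGroup p ↥((Q : Subgroup ↥A).map A.subtype) := Q.isPGroup'.map _
  have hQidx : ¬ p ∣ ((Q : Subgroup ↥A).map A.subtype).index := by
    rw [Subgroup.index_map_subtype]
    intro h
    rcases (Nat.Prime.dvd_mul hpp).mp h with h1 | h1
    · exact Q.not_dvd_index h1
    · have h2 : p ∣ Nat.gcd (Nat.card A) A.index := Nat.dvd_gcd hp h1
      rw [Nat.Coprime.gcd_eq_one hcop] at h2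
      exact hpp.one_lt.ne' (Nat.dvd_one.mp h2)
  have h03 := (Group.isNilpotent_of_finite_tfae (G := H)).out 0 3
  have hall : ∀ (p : ℕ) [Fact p.Prime] (P : Sylow p H), (P : Subgroup H).Normal := h03.mp hnil
  have hPn : (P : Subgroup H).Normal := hall p P
  have := Sylow.unique_of_normal P hPn
  have heq : P = hQp.toSylow hQidx := Subsingleton.elim _ _
  rw [heq]
  show (Q : Subgroup ↥A).map A.subtype ≤ A
  exact Subgroup.map_subtype_le _

/-- the core, inside a nilpotent group -/
theorem core {H : Type u} [Group H] [Finite H] (hnil : Group.IsNilpotent H)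
    (A B : Subgroup H) (hcard : Nat.card A = Nat.card B)
    (hcop : (Nat.card A).Coprime A.index) : A = B := by
  classical
  have key : ∀ o : ℕ, ∀ x : H, orderOf x = o → o ∣ Nat.card A → x ∈ A := by
    intro o
    induction o using Nat.strong_induction_on with
    | _ o ih =>
      intro x hxo hdvd
      have ho0 : o ≠ 0 := by
        rw [← hxo]
        exact (orderOf_pos x).ne'
      by_cases ho1 : o = 1
      · rw [ho1, orderOf_eq_one_iff] at hxo
        rw [hxo]
        exact A.one_mem
      · obtain ⟨p, hp, hpo⟩ := Nat.exists_prime_and_dvd ho1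
        have : Fact p.Prime := ⟨hp⟩
        have hprod := Nat.ordProj_mul_ordCompl_eq_self o p
        have hcopPu : Nat.Coprime (p ^ o.factorization p) (o / p ^ o.factorization p) :=
          (Nat.coprime_ordCompl hp ho0).pow_left _
        have hfpos : 0 < o.factorization p := hp.factorization_pos_of_dvd ho0 hpo
        have hPdvd : p ^ o.factorization p ∣ o := Nat.ordProj_dvd o p
        have hudvd : o / p ^ o.factorization p ∣ o := Nat.div_dvd_of_dvd hPdvd
        have hPpos : 0 < p ^ o.factorization p := pow_pos hp.pos _
        have hPgt : 1 < p ^ o.factorization p := Nat.one_lt_pow hfpos.ne' hp.one_lt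
        have hult : o / p ^ o.factorization p < o := Nat.div_lt_self (Nat.pos_of_ne_zero ho0) hPgt
        -- the `p'`-part
        have h1 : x ^ (p ^ o.factorization p) ∈ A := by
          apply ih (o / p ^ o.factorization p) hult _ _ (hudvd.trans hdvd)
          rw [orderOf_pow_of_dvd hPpos.ne' (hxo ▸ hPdvd), hxo]
        -- the `p`-part
        have h2 : x ^ (o / p ^ o.factorization p) ∈ A := by
          have hupos : 0 < o / p ^ o.factorization p :=
            Nat.div_pos (Nat.le_of_dvd (Nat.pos_of_ne_zero ho0) hPdvd) hPpos
          have hord : orderOf (x ^ (o / p ^ o.factorization p)) = p ^ o.factorization p := by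
            rw [orderOf_pow_of_dvd hupos.ne' (hxo ▸ hudvd), hxo]
            exact Nat.div_div_self hPdvd ho0
          have hzp : IsPGroup p ↥(Subgroup.zpowers (x ^ (o / p ^ o.factorization p))) := by
            apply IsPGroup.of_card (n := o.factorization p)
            rw [Nat.card_zpowers, hord]
          obtain ⟨P, hP⟩ := hzp.exists_le_sylow
          exact sylow_le hnil A hcop p (hpo.trans hdvd) P (hP (Subgroup.mem_zpowers _))
        -- Bezout
        have hbez := Nat.gcd_eq_gcd_ab (p ^ o.factorization p) (o / p ^ o.factorization p)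
        rw [Nat.Coprime.gcd_eq_one hcopPu] at hbez
        have hx : x = (x ^ (p ^ o.factorization p)) ^
            (Nat.gcdA (p ^ o.factorization p) (o / p ^ o.factorization p)) *
            (x ^ (o / p ^ o.factorization p)) ^
            (Nat.gcdB (p ^ o.factorization p) (o / p ^ o.factorization p)) := by
          rw [← zpow_natCast, ← zpow_natCast, ← zpow_mul, ← zpow_mul, ← zpow_add, ← hbez]
          simp
        rw [hx]
        exact A.mul_mem (A.zpow_mem h1 _) (A.zpow_mem h2 _)
  have hBA : B ≤ A := by
    intro b hb
    apply key (orderOf b) b rfl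
    rw [hcard]
    exact Subgroup.orderOf_dvd_natCard B hb
  exact (Subgroup.eq_of_le_of_card_ge hBA (le_of_eq hcard)).symm

theorem main : HallNilUniq.{u} := by
  intro G _ _ N A B hnil hA hB hcard hcop
  have h1 : A.subgroupOf N = B.subgroupOf N := by
    apply core hnil
    · rw [Nat.card_congr (Subgroup.subgroupOfEquivOfLe hA).toEquiv,
        Nat.card_congr (Subgroup.subgroupOfEquivOfLe hB).toEquiv]
      exact hcard
    · rw [Nat.card_congr (Subgroup.subgroupOfEquivOfLe hA).toEquiv]
      exact hcop
  have h2 := congrArg (Subgroup.map N.subtype) h1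
  rw [Subgroup.map_subgroupOf_eq_of_le hA, Subgroup.map_subgroupOf_eq_of_le hB] at h2
  exact h2

end Cfsg.Agent.Lib.Helper15.HNHNU
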