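import Mathlib
import Cfsg.Agent.Lib.Helper26.J3Stmt
import Cfsg.Agent.Lib.Helper15.J3ZF2

/-! S3366 piece FAITH: `X / R` acts faithfully on `R / Z`. -/

set_option autoImplicit false
universe u

namespace Cfsg.Agent.Lib.Helper15.J3FAITH

open Cfsg.Agent.Lib.Helper26.J3Stmt Cfsg.Agent.Lib.Helper15.J3ZF2

set_option maxHeartbeats 4000000 in
theorem sl_closure : ∀ A : SL, A ≠ 1 →
    (A = -1 ∨ A ^ 2 = -1 ∨ A ^ 3 = -1 ∨ ∃ h : SL, (A * (h * A * h⁻¹)) ^ 3 = -1) := by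
  decide +kernel

set_option maxHeartbeats 4000000 in
theorem sl_central : ∀ T : SL, T ≠ 1 → (∀ A : SL, A * T * A⁻¹ * T⁻¹ = 1) → T = -1 := by
  decide +kernel

theorem neg_one_mem (N : Subgroup SL) [hN : N.Normal] (A : SL) (hA : A ∈ N) (hA1 : A ≠ 1) :
    (-1 : SL) ∈ N := by
  rcases sl_closure A hA1 with h | h | h | ⟨g, h⟩
  · rw [← h]; exact hA
  · rw [← h]; exact N.pow_mem hA 2
  · rw [← h]; exact N.pow_mem hA 3
  · rw [← h]; exact N.pow_mem (N.mul_mem hA (hN.conj_mem A hA g)) 3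

/-- the centralizer of `R / Z`. -/
def C1 (X : Type u) [Group X] (hZ : ZFacts X) : Subgroup X where
  carrier := {x | ∀ r ∈ R X, x * r * x⁻¹ * r⁻¹ ∈ Zc X}
  one_mem' := by
    intro r hr
    have : (1 : X) * r * 1⁻¹ * r⁻¹ = 1 := by group
    rw [this]; exact one_mem _
  mul_mem' := by
    intro x y hx hy r hr
    have h1 := hy r hr
    have h2 := hx r hr
    have hc := hZ.2.2.2.2 _ h1 x
    have : x * y * r * (x * y)⁻¹ * r⁻¹ = (y * r * y⁻¹ * r⁻¹) * (x * r * x⁻¹ * r⁻¹) := by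
      calc x * y * r * (x * y)⁻¹ * r⁻¹ = (x * (y * r * y⁻¹ * r⁻¹)) * r * x⁻¹ * r⁻¹ := by group
        _ = ((y * r * y⁻¹ * r⁻¹) * x) * r * x⁻¹ * r⁻¹ := by rw [hc]
        _ = _ := by group
    rw [this]; exact (Zc X).mul_mem h1 h2
  inv_mem' := by
    intro x hx r hr
    have hr' : x⁻¹ * r * x ∈ R X := conj_mem_R' hr x
    have h1 := hx _ hr'
    have : x⁻¹ * r * x⁻¹⁻¹ * r⁻¹ = (x * (x⁻¹ * r * x) * x⁻¹ * (x⁻¹ * r * x)⁻¹)⁻¹ := by group
    rw [this]; exact (Zc X).inv_mem h1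

theorem C1_normal (X : Type u) [Group X] (hZ : ZFacts X) : (C1 X hZ).Normal :=
  ⟨fun x hx g r hr => by
    have hr' : g⁻¹ * r * g ∈ R X := conj_mem_R' hr g
    have h1 := hx _ hr'
    have hc := hZ.2.2.2.2 _ h1 g
    have : g * x * g⁻¹ * r * (g * x * g⁻¹)⁻¹ * r⁻¹
        = g * (x * (g⁻¹ * r * g) * x⁻¹ * (g⁻¹ * r * g)⁻¹) * g⁻¹ := by group
    rw [this, hc, mul_inv_cancel_right]; exact h1⟩

theorem main : FAITH.{u} := by
  intro X _ hH hZ t ht x hx
  have hH' := hH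
  obtain ⟨hfin, -, hR27, hexp, ⟨e⟩, -, -⟩ := hH'
  obtain ⟨htt, htR, htcomm, htinv⟩ := ht
  by_contra hxR
  have hN := C1_normal X hZ
  obtain ⟨π, hπ⟩ : ∃ π : X →* SL, π = e.toMonoidHom.comp (QuotientGroup.mk' (Cfsg.pCore 3 X)) :=
    ⟨_, rfl⟩
  have hπsurj : Function.Surjective π := by
    rw [hπ]; exact e.surjective.comp (QuotientGroup.mk'_surjective _)
  have hπ1 : ∀ y : X, π y = 1 ↔ y ∈ R X := by
    intro y
    rw [hπ]
    show e (QuotientGroup.mk y) = 1 ↔ _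
    rw [← QuotientGroup.eq_one_iff (N := Cfsg.pCore 3 X)]
    constructor
    · intro h; apply e.injective; rw [h, map_one]
    · intro h; rw [h, map_one]
  have hNπ : ((C1 X hZ).map π).Normal := hN.map π hπsurj
  have hxmem : π x ∈ (C1 X hZ).map π := Subgroup.mem_map_of_mem π (show x ∈ C1 X hZ from hx)
  have hx1 : π x ≠ 1 := fun h => hxR ((hπ1 x).mp h)
  have hneg := neg_one_mem _ _ hxmem hx1
  obtain ⟨y, hy, hyneg⟩ := Subgroup.mem_map.mp hneg
  have hπt : π t = -1 := by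
    apply sl_central
    · intro h; exact htR ((hπ1 t).mp h)
    · intro A
      obtain ⟨a, rfl⟩ := hπsurj A
      rw [← map_inv, ← map_inv, ← map_mul, ← map_mul, ← map_mul]
      exact (hπ1 _).mpr (htcomm a)
  have htC : t ∈ C1 X hZ := by
    have h1 : π (y⁻¹ * t) = 1 := by rw [map_mul, map_inv, hyneg, hπt, inv_mul_cancel]
    have h2 : y⁻¹ * t ∈ C1 X hZ := fun r hr => hZ.2.2.1 _ ((hπ1 _).mp h1) r hr
    have : t = y * (y⁻¹ * t) := by group
    rw [this]; exact (C1 X hZ).mul_mem hy h2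
  have hRZ : R X ≤ Zc X := by
    intro r hr
    have w1 := htC r hr
    have w2 := htinv r hr
    have hr3 := hexp r hr
    obtain ⟨w, hw⟩ : ∃ w, w = t * r * t⁻¹ * r⁻¹ := ⟨_, rfl⟩
    have ha : t * r * t⁻¹ = w * r := by rw [hw]; group
    rw [← hw] at w1
    rw [ha] at w2
    have hc : r * w = w * r := hZ.2.2.2.2 w w1 r
    have hrr : r * r ∈ Zc X := by
      have : r * r = w⁻¹ * (r * (w * r)) := by
        rw [← mul_assoc r w r, hc]; group
      rw [this]; exact (Zc X).mul_mem ((Zc X).inv_mem w1) w2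
    have : r = (r * r) * (r * r) := by
      have : (r * r) * (r * r) = r ^ 3 * r := by
        simp only [pow_succ, pow_zero, one_mul, mul_assoc]
      rw [this, hr3, one_mul]
    rw [this]; exact (Zc X).mul_mem hrr hrr
  have hcard : Nat.card (R X) ≤ Nat.card (Zc X) := Subgroup.card_le_of_le hRZ
  have h27 : Nat.card (R X) = 27 := hR27
  rw [h27, hZ.1] at hcard
  omega

end Cfsg.Agent.Lib.Helper15.J3FAITH
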