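import Mathlib
import Cfsg.Agent.Lib.Helper26.J3Stmt

/-! S3366 piece T1: an involution `t`, central mod `R`, not centralizing `R`. -/

set_option autoImplicit false
universe u

namespace Cfsg.Agent.Lib.Helper15.J3T1

open Cfsg.Agent.Lib.Helper26.J3Stmt

theorem neg_one_facts : (-1 : SL) ≠ 1 ∧ (-1 : SL) ^ 3 = -1 ∧ (-1 : SL) ^ 2 = 1 ∧
    ∀ A : SL, A * (-1) * A⁻¹ * (-1)⁻¹ = 1 := by decide +kernel

theorem main : T1.{u} := by
  intro X _ hH
  have hH' := hH
  obtain ⟨hfin, -, -, hexp, ⟨e⟩, hO2, -⟩ := hH'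
  obtain ⟨hne, hcube, hsq, hcen⟩ := neg_one_facts
  obtain ⟨q, hq⟩ := e.surjective (-1)
  obtain ⟨t0, rfl⟩ := QuotientGroup.mk_surjective q
  have ht0sq : t0 ^ 2 ∈ R X := by
    rw [← QuotientGroup.eq_one_iff, QuotientGroup.mk_pow]
    apply e.injective
    rw [map_pow, hq, hsq, map_one]
  have ht06 : t0 ^ 6 = 1 := by
    have := hexp _ ht0sq
    rw [← pow_mul] at this
    exact this
  have hemk : e (QuotientGroup.mk (t0 ^ 3)) = -1 := by
    rw [QuotientGroup.mk_pow, map_pow, hq, hcube]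
  have htt : t0 ^ 3 * t0 ^ 3 = 1 := by rw [← pow_add]; exact ht06
  have htR : t0 ^ 3 ∉ R X := by
    intro h
    apply hne
    rw [← hemk, (QuotientGroup.eq_one_iff _).mpr h, map_one]
  have hcomm : ∀ x : X, x * t0 ^ 3 * x⁻¹ * (t0 ^ 3)⁻¹ ∈ R X := by
    intro x
    rw [← QuotientGroup.eq_one_iff]
    apply e.injective
    rw [QuotientGroup.mk_mul, QuotientGroup.mk_mul, QuotientGroup.mk_mul, QuotientGroup.mk_inv,
      QuotientGroup.mk_inv, map_mul, map_mul, map_mul, map_inv, map_inv, hemk, map_one]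
    exact hcen _
  refine ⟨t0 ^ 3, htt, htR, hcomm, ?_⟩
  intro hcentR
  obtain ⟨t, ht⟩ : ∃ t, t = t0 ^ 3 := ⟨_, rfl⟩
  rw [← ht] at htt htR hcomm hcentR
  have hcent : ∀ x : X, Commute x t := by
    intro x
    have hc := hcomm x
    have hc3 := hexp _ hc
    have hct := hcentR _ hc
    have h1 : (x * t * x⁻¹ * t⁻¹) * t * ((x * t * x⁻¹ * t⁻¹) * t) = 1 := by
      simp only [inv_mul_cancel_right]
      calc x * t * x⁻¹ * (x * t * x⁻¹) = x * (t * t) * x⁻¹ := by group
        _ = 1 := by rw [htt]; group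
    obtain ⟨c, hcdef⟩ : ∃ c, c = x * t * x⁻¹ * t⁻¹ := ⟨_, rfl⟩
    rw [← hcdef] at h1 hc3 hct
    have h2 : c * c = 1 := by
      have : c * t * (c * t) = c * c * (t * t) := by
        rw [mul_assoc c t, ← mul_assoc t c, hct]; simp only [mul_assoc]
      rw [this, htt, mul_one] at h1
      exact h1
    have h3 : c = 1 := by
      have : c ^ 3 = c * c * c := by simp only [pow_succ, pow_zero, one_mul]
      rw [this, h2, one_mul] at hc3
      exact hc3
    rw [h3] at hcdef
    show x * t = t * x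
    have h4 : x * t * x⁻¹ * t⁻¹ * t * x = t * x := by rw [← hcdef, one_mul]
    rw [← h4]; group
  have hN : (Subgroup.zpowers t).Normal := ⟨fun n hn g => by
      obtain ⟨k, rfl⟩ := Subgroup.mem_zpowers_iff.mp hn
      have hc : Commute g (t ^ k) := (hcent g).zpow_right k
      rw [hc.eq, mul_inv_cancel_right]
      exact hn⟩
  have hP : IsPGroup 2 (Subgroup.zpowers t) := by
    intro g
    refine ⟨1, ?_⟩
    obtain ⟨g, hg⟩ := g
    obtain ⟨k, rfl⟩ := Subgroup.mem_zpowers_iff.mp hg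
    apply Subtype.ext
    simp only [pow_one, Subgroup.coe_pow, Subgroup.coe_one]
    rw [← zpow_natCast, ← zpow_mul, mul_comm, zpow_mul, zpow_natCast, pow_two, htt, one_zpow]
  have hle : Subgroup.zpowers t ≤ Cfsg.pCore 2 X := le_sSup ⟨hN, hP⟩
  rw [hO2] at hle
  have ht1 : t = 1 := by
    have := hle (Subgroup.mem_zpowers t)
    simpa using this
  apply htR
  rw [ht1]; exact one_mem _

end Cfsg.Agent.Lib.Helper15.J3T1
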