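import Mathlib
import Cfsg.Agent.Lib.Helper15.NpcStmt

set_option autoImplicit false

/-! Assembly of S3875 from the pieces of `NpcStmt`. -/

namespace Cfsg.Agent.Lib.Helper15.NpcAsm

open Cfsg.Agent.Lib.Helper15.NpcStmt

theorem isPrimePow_four : IsPrimePow 4 := ⟨2, 2, Nat.prime_two.prime, by norm_num, by norm_num⟩

theorem s3875_of (hRed : Red) (hNPP : NormalPPrime) (hSup : SupTop) (hCard : CardSplit)
    (hSyl : SylowPrime) (hPow : PrimePow) (hCong : Cong) (hB : CaseB) (hExA : ExA) (hExB : ExB)
    (p : ℕ) [Fact p.Prime] (hp : p ≠ 2) (m : ℕ) (hm : IsPrimePow m) (hm1 : m % p = 1)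
    (hleast : ∀ k : ℕ, IsPrimePow k → k % p = 1 → m ≤ k) :
    (∀ (H : Type) [Group H] [Finite H], ¬ Cfsg.IsPClosed p H →
        min (p * m) (p * (p ^ 2 - 1) / 2) ≤ Nat.card H) ∧
      ∃ (H : Type) (_ : Group H) (_ : Finite H),
        Nat.card H = min (p * m) (p * (p ^ 2 - 1) / 2) ∧ ¬ Cfsg.IsPClosed p H := by
  have hpp : p.Prime := Fact.out
  constructor
  · apply hRed p
    intro H _ _ hmin
    by_cases hex : ∃ N : Subgroup H, N.Normal ∧ N ≠ ⊥ ∧ N ≠ ⊤
    · obtain ⟨N, hN, hNb, hNt⟩ := hex
      -- a minimal normal subgroup inside `N`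
      have hne : Nonempty {M : Subgroup H // M.Normal ∧ M ≠ ⊥ ∧ M ≤ N} := ⟨⟨N, hN, hNb, le_refl N⟩⟩
      obtain ⟨⟨N₀, hN₀, hN₀b, hN₀N⟩, hN₀min⟩ := Finite.exists_min
        (fun M : {M : Subgroup H // M.Normal ∧ M ≠ ⊥ ∧ M ≤ N} => Nat.card (M : Subgroup H))
      have hN₀t : N₀ ≠ ⊤ := by
        rintro rfl
        exact hNt (top_le_iff.mp hN₀N)
      have hminN : ∀ M : Subgroup H, M.Normal → M ≤ N₀ → M = ⊥ ∨ M = N₀ := by
        intro M hM hMN
        by_cases hMb : M = ⊥
        · exact Or.inl hMb
        · right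
          have h1 : Nat.card N₀ ≤ Nat.card M := hN₀min ⟨M, hM, hMb, hMN.trans hN₀N⟩
          exact Subgroup.eq_of_le_of_card_ge hMN h1
      obtain ⟨P⟩ : Nonempty (Sylow p H) := inferInstance
      have hNp : ¬ p ∣ Nat.card N₀ := hNPP p H hmin N₀ hN₀ hN₀t
      have hsup := hSup p H hmin N₀ hN₀ hN₀b P
      have hcP := hSyl p H hmin N₀ hN₀ hN₀b hN₀t P
      have hc := hCard p H N₀ hN₀ hNp P hsup
      rw [hcP] at hc
      have hpow := hPow p H hmin N₀ hN₀ hN₀b hNp hc
      have hcong := hCong p H hmin N₀ hN₀ hN₀b hminN hNp hc hpow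
      have hmle : m ≤ Nat.card N₀ := hleast _ hpow hcong
      rw [hc]
      exact le_trans (min_le_left _ _) (Nat.mul_le_mul_left p hmle)
    · push Not at hex
      have hnt : Nontrivial H := by
        by_contra hcon
        rw [not_nontrivial_iff_subsingleton] at hcon
        apply hmin.1
        intro P
        have h1 : (P : Subgroup H) = ⊤ := Subsingleton.elim _ _
        rw [h1]
        infer_instance
      have hsimple : IsSimpleGroup H :=
        { exists_pair_ne := hnt.exists_pair_ne
          eq_bot_or_eq_top_of_normal := by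
            intro N hN
            by_cases hNb : N = ⊥
            · exact Or.inl hNb
            · exact Or.inr (hex N hN hNb) }
      exact le_trans (min_le_right _ _) (hB p hp H hsimple hmin.1)
  · by_cases hle : p * m ≤ p * (p ^ 2 - 1) / 2
    · rw [min_eq_left hle]
      exact hExA p m hm hm1
    · push Not at hle
      rw [min_eq_right hle.le]
      have h5 : 5 ≤ p := by
        have h2 : 2 ≤ p := hpp.two_le
        by_contra hcon
        push Not at hcon
        have h3 : p = 3 ∨ p = 4 := by omega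
        rcases h3 with h3 | h3
        · subst h3
          have hm4 : m ≤ 4 := hleast 4 isPrimePow_four (by norm_num)
          have : 3 * m ≤ 12 := by omega
          norm_num at hle
          omega
        · subst h3
          norm_num at hpp
      exact hExB p h5

end Cfsg.Agent.Lib.Helper15.NpcAsm
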