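import Mathlib
import Cfsg.Agent.Lib.Helper15.NpcStmt

set_option autoImplicit false

namespace Cfsg.Agent.Lib.Helper15.NpcCARD

open Cfsg.Agent.Lib.Helper15.NpcStmt
open scoped Pointwise

theorem main : CardSplit := by
  intro p _ H _ _ N hN hNp P hsup
  have hpp : p.Prime := Fact.out
  have hcop : Nat.Coprime (Nat.card (P : Subgroup H)) (Nat.card N) := by
    obtain ⟨n, hn⟩ := IsPGroup.iff_card.mp P.isPGroup'
    rw [hn]
    apply Nat.Coprime.pow_left
    exact (Nat.Prime.coprime_iff_not_dvd hpp).mpr hNp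
  have hdisj : Disjoint (P : Subgroup H) N := Subgroup.disjoint_of_coprime_natCard hcop
  have h2 : ((P : Subgroup H) : Set H) * (N : Set H) = Set.univ := by
    rw [← Subgroup.mul_normal, hsup]
    rfl
  exact (Subgroup.isComplement'_of_disjoint_and_mul_eq_univ hdisj h2).card_mul_card.symm

end Cfsg.Agent.Lib.Helper15.NpcCARD
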