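import Mathlib
import Cfsg.Agent.Lib.Helper15.NpcStmt

set_option autoImplicit false

namespace Cfsg.Agent.Lib.Helper15.NpcPPOWA

open Cfsg.Agent.Lib.Helper15.NpcStmt
open scoped Pointwise

theorem card_eq_relIndex_mul' {G : Type*} [Group G] (H K : Subgroup G) (h : H ≤ K) :
    Nat.card K = H.relIndex K * Nat.card H := by
  have h1 := Subgroup.card_mul_index (H.subgroupOf K)
  rw [Nat.card_congr (Subgroup.subgroupOfEquivOfLe h).toEquiv] at h1
  rw [← h1, mul_comm]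
  rfl

theorem main : CentSylow := by
  intro p _ H _ _ hmin N hN hNp hcard r _ R hRne
  have hpp : p.Prime := Fact.out
  have hNpos : 0 < Nat.card N := Nat.card_pos
  obtain ⟨R', hR'⟩ : ∃ R' : Subgroup H, R' = (R : Subgroup ↥N).map N.subtype := ⟨_, rfl⟩
  rw [← hR'] at hRne ⊢
  have hR'N : R' ≤ N := by
    rw [hR']
    exact Subgroup.map_subtype_le _
  have hfr : Subgroup.normalizer (R' : Set H) ⊔ N = ⊤ := by
    rw [hR']
    exact Sylow.normalizer_sup_eq_top R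
  -- `p` divides the order of the normalizer of `R'`
  have hpA : p ∣ Nat.card (Subgroup.normalizer (R' : Set H)) := by
    have h1 : Nat.card (N ⊔ Subgroup.normalizer (R' : Set H) : Subgroup H) =
        N.relIndex (N ⊔ Subgroup.normalizer (R' : Set H)) * Nat.card N :=
      card_eq_relIndex_mul' _ _ le_sup_left
    rw [Subgroup.relIndex_sup_left, sup_comm, hfr, Subgroup.card_top, hcard] at h1
    have h3 : p = N.relIndex (Subgroup.normalizer (R' : Set H)) :=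
      Nat.eq_of_mul_eq_mul_right hNpos h1
    rw [h3]
    exact Subgroup.relIndex_dvd_card _ _
  obtain ⟨y', hy'⟩ := exists_prime_orderOf_dvd_card' p hpA
  obtain ⟨y, hy⟩ : ∃ y : H, y = (y' : H) := ⟨_, rfl⟩
  have hyo : orderOf y = p := by rw [hy, Subgroup.orderOf_coe, hy']
  have hyn : y ∈ Subgroup.normalizer (R' : Set H) := by rw [hy]; exact y'.2
  refine ⟨y, hyo, ?_⟩
  -- `K = ⟨y⟩ R'`
  have hZn : Subgroup.zpowers y ≤ Subgroup.normalizer (R' : Set H) := by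
    rw [Subgroup.zpowers_le]
    exact hyn
  obtain ⟨K, hK⟩ : ∃ K : Subgroup H, K = Subgroup.zpowers y ⊔ R' := ⟨_, rfl⟩
  have hyK : y ∈ K := by
    rw [hK]
    exact Subgroup.mem_sup_left (Subgroup.mem_zpowers y)
  have hRK : R' ≤ K := by rw [hK]; exact le_sup_right
  have hR'lt : Nat.card R' < Nat.card N := by
    have h1 : Nat.card R' ≤ Nat.card N := Subgroup.card_le_of_le hR'N
    rcases lt_or_eq_of_le h1 with h2 | h2
    · exact h2
    · exact absurd (Subgroup.eq_of_le_of_card_ge hR'N h2.ge) hRne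
  have hKcard : Nat.card K ≤ p * Nat.card R' := by
    have h1 : ((K : Subgroup H) : Set H) = (Subgroup.zpowers y : Set H) * (R' : Set H) := by
      rw [hK]
      exact Subgroup.coe_mul_of_left_le_normalizer_right _ _ hZn
    have h2 : Nat.card K = Nat.card ((K : Subgroup H) : Set H) := rfl
    rw [h2, h1]
    refine le_trans Set.natCard_mul_le ?_
    have h3 : Nat.card ((Subgroup.zpowers y : Subgroup H) : Set H) = p := by
      show Nat.card (Subgroup.zpowers y) = p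
      rw [Nat.card_zpowers, hyo]
    rw [h3]
    exact le_refl _
  have hKt : K ≠ ⊤ := by
    intro hKt
    rw [hKt, Subgroup.card_top, hcard] at hKcard
    have := Nat.mul_lt_mul_of_pos_left hR'lt hpp.pos
    omega
  have hKpc : Cfsg.IsPClosed p ↥K := hmin.2.1 K hKt
  -- the Sylow `p`-subgroup of `K` containing `y`
  have hzc : Nat.card (Subgroup.zpowers (⟨y, hyK⟩ : ↥K)) = p := by
    rw [Nat.card_zpowers, ← Subgroup.orderOf_coe]
    exact hyo
  have hzp : IsPGroup p (Subgroup.zpowers (⟨y, hyK⟩ : ↥K)) :=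
    IsPGroup.of_card (n := 1) (by rw [hzc, pow_one])
  obtain ⟨S, hS⟩ := hzp.exists_le_sylow
  have hSn : (S : Subgroup ↥K).Normal := hKpc S
  have hyS : (⟨y, hyK⟩ : ↥K) ∈ (S : Subgroup ↥K) := hS (Subgroup.mem_zpowers _)
  intro x hx
  -- the commutator `x y x⁻¹ y⁻¹`
  have hxK : x ∈ K := hRK hx
  have hc1 : (⟨x, hxK⟩ : ↥K) * ⟨y, hyK⟩ * (⟨x, hxK⟩ : ↥K)⁻¹ * (⟨y, hyK⟩ : ↥K)⁻¹ ∈
      (S : Subgroup ↥K) :=
    Subgroup.mul_mem _ (hSn.conj_mem _ hyS _) (Subgroup.inv_mem _ hyS)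
  have hc2 : x * y * x⁻¹ * y⁻¹ ∈ R' := by
    have h1 : y * x⁻¹ * y⁻¹ ∈ R' :=
      (Subgroup.mem_normalizer_iff.mp hyn x⁻¹).mp (Subgroup.inv_mem _ hx)
    have h2 : x * y * x⁻¹ * y⁻¹ = x * (y * x⁻¹ * y⁻¹) := by group
    rw [h2]
    exact Subgroup.mul_mem _ hx h1
  -- its order is a power of `p` and divides `|N|`
  obtain ⟨k, hk⟩ := S.isPGroup' ⟨_, hc1⟩
  have hk' : (x * y * x⁻¹ * y⁻¹) ^ p ^ k = 1 := by
    have h1 := congrArg (fun z : (S : Subgroup ↥K) => ((z : ↥K) : H)) hk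
    simpa using h1
  have hN' : (x * y * x⁻¹ * y⁻¹) ^ Nat.card N = 1 := by
    have h1 : (⟨x * y * x⁻¹ * y⁻¹, hR'N hc2⟩ : ↥N) ^ Nat.card N = 1 := pow_card_eq_one'
    have h2 : (((⟨x * y * x⁻¹ * y⁻¹, hR'N hc2⟩ : ↥N) ^ Nat.card N : ↥N) : H) = ((1 : ↥N) : H) :=
      congrArg _ h1
    rw [Subgroup.coe_pow, Subgroup.coe_one] at h2
    exact h2
  have ho1 : orderOf (x * y * x⁻¹ * y⁻¹) ∣ p ^ k := orderOf_dvd_of_pow_eq_one hk'
  have ho2 : orderOf (x * y * x⁻¹ * y⁻¹) ∣ Nat.card N := orderOf_dvd_of_pow_eq_one hN'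
  have hcop : Nat.Coprime (p ^ k) (Nat.card N) :=
    Nat.Coprime.pow_left _ ((Nat.Prime.coprime_iff_not_dvd hpp).mpr hNp)
  have ho3 : orderOf (x * y * x⁻¹ * y⁻¹) = 1 :=
    Nat.eq_one_of_dvd_coprimes hcop ho1 ho2
  rw [orderOf_eq_one_iff] at ho3
  have h4 : y * x = (x * y * x⁻¹ * y⁻¹)⁻¹ * (x * y) := by group
  rw [h4, ho3, inv_one, one_mul]

end Cfsg.Agent.Lib.Helper15.NpcPPOWA
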