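import Mathlib
import Cfsg.Agent.Lib.Helper15.NpcStmt

set_option autoImplicit false

namespace Cfsg.Agent.Lib.Helper15.NpcPPOWB

open Cfsg.Agent.Lib.Helper15.NpcStmt
open scoped Pointwise

theorem main : CentSylow → PrimePow := by
  intro hCS p _ H _ _ hmin N hN hNb hNp hcard
  have hpp : p.Prime := Fact.out
  by_contra hnpp
  apply hmin.1
  have hNpos : 0 < Nat.card N := Nat.card_pos
  have hN1 : 1 < Nat.card N := by
    rw [Finite.one_lt_card_iff_nontrivial]
    exact (Subgroup.nontrivial_iff_ne_bot N).mpr hNb
  -- every Sylow `p`-subgroup has order `p`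
  have hSylcard : ∀ Q : Sylow p H, Nat.card (Q : Subgroup H) = p := by
    intro Q
    rw [Sylow.card_eq_multiplicity, hcard, Nat.factorization_mul hpp.ne_zero hNpos.ne',
      Finsupp.add_apply, hpp.factorization_self, Nat.factorization_eq_zero_of_not_dvd hNp]
    simp
  intro P
  have key : ∀ r : ℕ, r.Prime → r ^ (Nat.card N).factorization r ∣
      Nat.card (N ⊓ Subgroup.centralizer ((P : Subgroup H) : Set H) : Subgroup H) := by
    intro r hr
    have : Fact r.Prime := ⟨hr⟩
    obtain ⟨R⟩ : Nonempty (Sylow r ↥N) := inferInstance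
    have hRcard : Nat.card (R : Subgroup ↥N) = r ^ (Nat.card N).factorization r :=
      Sylow.card_eq_multiplicity R
    have hR'card : Nat.card ((R : Subgroup ↥N).map N.subtype) =
        r ^ (Nat.card N).factorization r := by
      rw [← hRcard]
      exact Subgroup.card_map_of_injective (Subgroup.subtype_injective N)
    have hRne : (R : Subgroup ↥N).map N.subtype ≠ N := by
      intro heq
      apply hnpp
      have h1 : Nat.card N = r ^ (Nat.card N).factorization r := by
        rw [← hR'card]
        exact (congrArg (fun K : Subgroup H => Nat.card K) heq).symm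
      have hk : (Nat.card N).factorization r ≠ 0 := by
        intro h0
        rw [h0, pow_zero] at h1
        omega
      exact ⟨r, (Nat.card N).factorization r, hr.prime, Nat.pos_of_ne_zero hk, h1.symm⟩
    obtain ⟨y, hy, hyc⟩ := hCS p H hmin N hN hNp hcard r R hRne
    have hzc : Nat.card (Subgroup.zpowers y) = p := by rw [Nat.card_zpowers, hy]
    have hzp : IsPGroup p (Subgroup.zpowers y) := IsPGroup.of_card (n := 1) (by rw [hzc, pow_one])
    obtain ⟨Q, hQ⟩ := hzp.exists_le_sylow
    have hQeq : Subgroup.zpowers y = (Q : Subgroup H) :=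
      Subgroup.eq_of_le_of_card_ge hQ (by rw [hzc, hSylcard Q])
    obtain ⟨g, hg⟩ := MulAction.exists_smul_eq H Q P
    -- the conjugate of `R` by `g`
    have hsub : ((R : Subgroup ↥N).map N.subtype).map (MulAut.conj g).toMonoidHom ≤
        N ⊓ Subgroup.centralizer ((P : Subgroup H) : Set H) := by
      rintro _ ⟨x, hx, rfl⟩
      have hxN : x ∈ N := by
        obtain ⟨x', -, rfl⟩ := hx
        exact x'.2
      refine ⟨?_, ?_⟩
      · show g * x * g⁻¹ ∈ N
        exact hN.conj_mem x hxN g
      · show (MulAut.conj g).toMonoidHom x ∈ Subgroup.centralizer ((P : Subgroup H) : Set H)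
        rw [Subgroup.mem_centralizer_iff]
        intro w hw
        have hw' : w ∈ ((g • Q : Sylow p H) : Subgroup H) := by rw [hg]; exact hw
        rw [Sylow.coe_subgroup_smul, Subgroup.mem_pointwise_smul_iff_inv_smul_mem] at hw'
        rw [← hQeq] at hw'
        -- `g⁻¹ w g ∈ zpowers y` commutes with `x`
        have hcen : Subgroup.zpowers y ≤ Subgroup.centralizer {x} := by
          rw [Subgroup.zpowers_le, Subgroup.mem_centralizer_iff]
          intro h hh
          rw [Set.mem_singleton_iff] at hh
          subst hh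
          exact (hyc h hx).symm
        have h2 := hcen hw'
        rw [Subgroup.mem_centralizer_iff] at h2
        have h3 := h2 x rfl
        have h4 : (MulAut.conj g)⁻¹ • w = g⁻¹ * w * g := by
          simp [MulAut.smul_def]
        rw [h4] at h3
        show w * (g * x * g⁻¹) = (g * x * g⁻¹) * w
        have h5 : w = g * (g⁻¹ * w * g) * g⁻¹ := by group
        rw [h5]
        have h6 : g * (g⁻¹ * w * g) * g⁻¹ * (g * x * g⁻¹) = g * ((g⁻¹ * w * g) * x) * g⁻¹ := by group
        have h7 : g * x * g⁻¹ * (g * (g⁻¹ * w * g) * g⁻¹) = g * (x * (g⁻¹ * w * g)) * g⁻¹ := by group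
        rw [h6, h7, h3]
    have h8 := Subgroup.card_dvd_of_le hsub
    rw [Subgroup.card_map_of_injective (MulAut.conj g).injective, hR'card] at h8
    exact h8
  -- hence `N` centralizes `P`
  have hdvd : Nat.card N ∣
      Nat.card (N ⊓ Subgroup.centralizer ((P : Subgroup H) : Set H) : Subgroup H) := by
    rw [← Nat.factorization_prime_le_iff_dvd hNpos.ne' Nat.card_pos.ne']
    intro r hr
    exact (hr.pow_dvd_iff_le_factorization Nat.card_pos.ne').mp (key r hr)
  have hle : N ≤ Subgroup.centralizer ((P : Subgroup H) : Set H) := by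
    have h1 : N ⊓ Subgroup.centralizer ((P : Subgroup H) : Set H) = N :=
      Subgroup.eq_of_le_of_card_ge inf_le_left (Nat.le_of_dvd Nat.card_pos hdvd)
    rw [← h1]
    exact inf_le_right
  have hNn : N ≤ Subgroup.normalizer ((P : Subgroup H) : Set H) :=
    hle.trans (Subgroup.centralizer_le_normalizer _)
  have hPn : (P : Subgroup H) ≤ Subgroup.normalizer ((P : Subgroup H) : Set H) :=
    Subgroup.le_normalizer
  have h1 : Nat.card N ∣ Nat.card (Subgroup.normalizer ((P : Subgroup H) : Set H)) :=
    Subgroup.card_dvd_of_le hNn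
  have h2 : p ∣ Nat.card (Subgroup.normalizer ((P : Subgroup H) : Set H)) := by
    have := Subgroup.card_dvd_of_le hPn
    rwa [hSylcard P] at this
  have hcop : Nat.Coprime p (Nat.card N) := (Nat.Prime.coprime_iff_not_dvd hpp).mpr hNp
  have h3 : p * Nat.card N ∣ Nat.card (Subgroup.normalizer ((P : Subgroup H) : Set H)) :=
    hcop.mul_dvd_of_dvd_of_dvd h2 h1
  rw [← hcard] at h3
  have h4 : Subgroup.normalizer ((P : Subgroup H) : Set H) = ⊤ :=
    Subgroup.eq_top_of_le_card _ (Nat.le_of_dvd Nat.card_pos h3)
  exact Subgroup.normalizer_eq_top_iff.mp h4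

end Cfsg.Agent.Lib.Helper15.NpcPPOWB
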