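import Mathlib
import Cfsg.Agent.Lib.Helper15.NpcStmt

set_option autoImplicit false

namespace Cfsg.Agent.Lib.Helper15.NpcRED

open Cfsg.Agent.Lib.Helper15.NpcStmt

theorem main : Red := by
  intro p _ B hB
  -- strong induction on the order
  suffices h : ∀ n : ℕ, ∀ (H : Type) [Group H] [Finite H], Nat.card H = n →
      ¬ Cfsg.IsPClosed p H → B ≤ Nat.card H by
    intro H _ _ hH
    exact h _ H rfl hH
  intro n
  induction n using Nat.strong_induction_on with
  | _ n ih =>
    intro H _ _ hn hH
    by_cases hmin : MinNPC p H
    · exact hB H hmin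
    · unfold MinNPC at hmin
      push Not at hmin
      have h2 := hmin hH
      by_cases hsub : ∀ K : Subgroup H, K ≠ ⊤ → Cfsg.IsPClosed p ↥K
      · obtain ⟨N, hN, hNb, hNq⟩ := h2 hsub
        have hlt : Nat.card (H ⧸ N) < Nat.card H := by
          have h3 : Nat.card H = Nat.card (H ⧸ N) * Nat.card N :=
            Subgroup.card_eq_card_quotient_mul_card_subgroup N
          have h4 : 1 < Nat.card N := by
            rw [Finite.one_lt_card_iff_nontrivial]
            exact (Subgroup.nontrivial_iff_ne_bot N).mpr hNb
          have h5 : 0 < Nat.card (H ⧸ N) := Nat.card_pos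
          rw [h3]
          nlinarith
        have h6 := ih (Nat.card (H ⧸ N)) (hn ▸ hlt) (H ⧸ N) rfl hNq
        exact h6.trans hlt.le
      · push Not at hsub
        obtain ⟨K, hKt, hK⟩ := hsub
        have hlt : Nat.card K < Nat.card H := by
          have h3 : Nat.card K ≤ Nat.card H := Subgroup.card_le_card_group K
          rcases lt_or_eq_of_le h3 with h4 | h4
          · exact h4
          · exact absurd (Subgroup.card_eq_iff_eq_top K |>.mp h4) hKt
        have h6 := ih (Nat.card K) (hn ▸ hlt) K rfl hK
        exact h6.trans hlt.le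

end Cfsg.Agent.Lib.Helper15.NpcRED
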