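import Mathlib
import Cfsg.Agent.Lib.Helper44.PGStmt
import Cfsg.Agent.Lib.Helper44.OCls1
import Cfsg.Agent.Lib.Helper44.NegPairs
import Cfsg.Agent.Lib.Helper44.BCFin

/-!
# S2474 / BNEC1: necessity of `CritI` for `r * s` in `Ω(2n+1, q)` from the Gram-level `GNecI`
-/

set_option autoImplicit false

namespace Cfsg.Agent.Lib.Helper15.PGBNEC1

open Matrix QuadraticMap
open Cfsg.Agent.Lib.Helper44.PGStmt Cfsg.Agent.Lib.Helper44.NegPairs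
open Cfsg.Agent.Lib.Helper44.QSpace

universe u

theorem two_ne_zero_of_char (F : Type u) [Field F] (p : ℕ) [Fact p.Prime] [CharP F p]
    (hp : p ≠ 2) : (2 : F) ≠ 0 := by
  intro h
  have h' : ((2 : ℕ) : F) = 0 := by exact_mod_cast h
  rw [CharP.cast_eq_zero_iff F p] at h'
  exact hp ((Nat.prime_dvd_prime_iff_eq (Fact.out : p.Prime) Nat.prime_two).1 h')

/-- The Gram-level data of an isometry of the standard odd-dimensional form. -/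
theorem setup (F : Type u) [Field F] [Fintype F] (h2 : (2 : F) ≠ 0) (n : ℕ)
    (g : ↥(Cfsg.isometryGroup F (Cfsg.quadFormOdd n F))) :
    ∃ G : Matrix (Unit ⊕ (Fin n ⊕ Fin n)) (Unit ⊕ (Fin n ⊕ Fin n)) F, G.det ≠ 0 ∧
      ((g : GL (Unit ⊕ (Fin n ⊕ Fin n)) F) : Matrix (Unit ⊕ (Fin n ⊕ Fin n))
          (Unit ⊕ (Fin n ⊕ Fin n)) F)ᵀ * G *
        ((g : GL (Unit ⊕ (Fin n ⊕ Fin n)) F) : Matrix (Unit ⊕ (Fin n ⊕ Fin n))
          (Unit ⊕ (Fin n ⊕ Fin n)) F) = G ∧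
      (∀ j : ℕ, ((g : GL (Unit ⊕ (Fin n ⊕ Fin n)) F) : Matrix (Unit ⊕ (Fin n ⊕ Fin n))
          (Unit ⊕ (Fin n ⊕ Fin n)) F) ^ j = 1 ↔ orderOf g ∣ j) ∧
      Fintype.card (Unit ⊕ (Fin n ⊕ Fin n)) = 2 * n + 1 := by
  refine ⟨LinearMap.BilinForm.toMatrix' (polarBilin (oddQ n F)),
    Cfsg.Agent.Lib.Helper44.OCls1.gram_det_ne_zero (sep_oddQ h2 n),
    Cfsg.Agent.Lib.Helper44.OCls1.gram_invariant (oddQ n F) (fun u => g.2 u u), ?_, ?_⟩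
  · intro j
    rw [← Cfsg.Agent.Lib.Helper44.BCFin.pow_eq_one_iff_mat, orderOf_dvd_iff_pow_eq_one]
  · simp [Fintype.card_sum]; ring

theorem main (hG : GNecI.{u}) : BNecI.{u} := by
  intro F _ _ p _ _ hp2 n _ r s hr hs hrs hr2 hs2 hrp hsp hB
  obtain ⟨g, -, hord⟩ := hB
  have h2 := two_ne_zero_of_char F p hp2
  obtain ⟨G, hdet, hinv, hpow, hcard⟩ := setup F h2 n g
  rw [hord] at hpow
  rcases hG F p (Unit ⊕ (Fin n ⊕ Fin n)) G _ r s h2 hdet hinv hr hs hrs hr2 hs2 hrp hsp hpow with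
    ⟨k₁, k₂, h1, h2', h3, h4, h5⟩ | ⟨k, h1, h3, h4⟩
  · left
    rw [hcard] at h3
    exact ⟨k₁, k₂, h1, h2', by omega, h4, h5⟩
  · right
    rw [hcard] at h3
    exact ⟨k, h1, by omega, h4⟩

end Cfsg.Agent.Lib.Helper15.PGBNEC1
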