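import Mathlib
import Cfsg.Agent.Lib.Helper44.PGStmt
import Cfsg.Agent.Lib.Helper15.PGBNEC1

/-!
# S2474 / BNEC2: necessity of `CritII` for `p * s` in `Ω(2n+1, q)` from the Gram-level `GNecII`
-/

set_option autoImplicit false

namespace Cfsg.Agent.Lib.Helper15.PGBNEC2

open Matrix
open Cfsg.Agent.Lib.Helper44.PGStmt

universe u

theorem main (hG : GNecII.{u}) : BNecII.{u} := by
  intro F _ _ p _ _ hp2 n _ s hs hs2 hsp hB
  obtain ⟨g, -, hord⟩ := hB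
  have h2 := Cfsg.Agent.Lib.Helper15.PGBNEC1.two_ne_zero_of_char F p hp2
  obtain ⟨G, hdet, hinv, hpow, hcard⟩ := Cfsg.Agent.Lib.Helper15.PGBNEC1.setup F h2 n g
  rw [hord] at hpow
  obtain ⟨k, h1, h3, h4⟩ := hG F p (Unit ⊕ (Fin n ⊕ Fin n)) G _ s h2 hdet hinv hs hs2 hsp hpow
  rw [hcard] at h3
  exact ⟨k, h1, by omega, h4⟩

end Cfsg.Agent.Lib.Helper15.PGBNEC2
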