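import Mathlib
import Cfsg.Agent.Lib.Helper92.PGStmt

set_option autoImplicit false

/-! Piece [CASE660] of S2490: if the chief factor carrying `11` has order `660`, the prime
graph of a group of order `7920` has the edges `2-11`, `3-11`, `3-5`. -/

namespace Cfsg.Agent.Lib.Helper15.PGCASE660

open Cfsg.Agent.Lib.Helper92.PGStmt

universe u

theorem ar_pos (a b : ℕ) (h : a * b = 12) : 1 ≤ a ∧ a ≤ 12 := by
  have ha : a ∣ 12 := Dvd.intro _ h
  exact ⟨Nat.pos_of_dvd_of_pos ha (by norm_num), Nat.le_of_dvd (by norm_num) ha⟩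

theorem ar22 (a b : ℕ) (h : a * b = 12) (h2 : ¬ 2 ∣ a) : 4 ∣ b := by
  obtain ⟨h1, h3⟩ := ar_pos a b h
  interval_cases a <;> omega

theorem ar33 (a b : ℕ) (h : a * b = 12) (h3 : ¬ 3 ∣ a) : 3 ∣ b := by
  obtain ⟨h1, h2⟩ := ar_pos a b h
  interval_cases a <;> omega

theorem fact11 : (7920 : ℕ).factorization 11 = 1 := by
  have h : (7920 : ℕ) = 11 * 720 := by norm_num
  rw [h, Nat.factorization_mul (by norm_num) (by norm_num), Finsupp.add_apply,
    Nat.Prime.factorization_self (by norm_num : Nat.Prime 11),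
    Nat.factorization_eq_zero_of_not_dvd (by norm_num : ¬ 11 ∣ 720)]

theorem fact5 : (7920 : ℕ).factorization 5 = 1 := by
  have h : (7920 : ℕ) = 5 * 1584 := by norm_num
  rw [h, Nat.factorization_mul (by norm_num) (by norm_num), Finsupp.add_apply,
    Nat.Prime.factorization_self (by norm_num : Nat.Prime 5),
    Nat.factorization_eq_zero_of_not_dvd (by norm_num : ¬ 5 ∣ 1584)]

theorem main : LemF.{u} → F11.{u} → Frat.{u} → Cent.{u} → Case660.{u} := by
  intro hLemF hF11 hFrat hCent G _ _ hG H K hH hK hHK hcard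
  have h12 : Nat.card H * K.index = 12 := by
    have h1 := Subgroup.card_mul_index K
    rw [hG, hcard] at h1
    have h2 : 660 * (Nat.card H * K.index) = 660 * 12 := by
      rw [← mul_assoc, h1]
    exact Nat.eq_of_mul_eq_mul_left (by norm_num) h2
  have hHd : Nat.card H ∣ 12 := Dvd.intro _ h12
  have hId : K.index ∣ 12 := Dvd.intro_left _ h12
  have h11H : ¬ 11 ∣ Nat.card H := fun h => by
    have h1 := h.trans hHd
    norm_num at h1
  have h5H : ¬ 5 ∣ Nat.card H := fun h => by
    have h1 := h.trans hHd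
    norm_num at h1
  have h11I : ¬ 11 ∣ K.index := fun h => by
    have h1 := h.trans hId
    norm_num at h1
  have h5I : ¬ 5 ∣ K.index := fun h => by
    have h1 := h.trans hId
    norm_num at h1
  have hf11 : Fact (Nat.Prime 11) := ⟨by norm_num⟩
  have hf5 : Fact (Nat.Prime 5) := ⟨by norm_num⟩
  obtain ⟨P⟩ : Nonempty (Sylow 11 G) := inferInstance
  have hP : Nat.card (P : Subgroup G) = 11 := by
    rw [Sylow.card_eq_multiplicity, hG, fact11, pow_one]
  have hfr := hFrat G K hK 11 P h11I
  obtain ⟨hc1, hc2⟩ := hCent G 11 P hP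
  have hIC : K.index ∣ 10 * Nat.card (Subgroup.centralizer ((P : Subgroup G) : Set G)) :=
    hfr.trans hc1
  refine ⟨?_, ?_, Or.inr ?_⟩
  · -- order 22
    by_cases h2 : 2 ∣ Nat.card H
    · obtain ⟨g, hg⟩ := hF11 G hG H hH h11H 2 Nat.prime_two h2
      exact ⟨g, hg.trans (by norm_num)⟩
    · have h4 : 4 ∣ K.index := ar22 _ _ h12 h2
      have h2C : 2 ∣ Nat.card (Subgroup.centralizer ((P : Subgroup G) : Set G)) := by
        have h1 := h4.trans hIC
        omega
      obtain ⟨g, hg⟩ := hc2 2 Nat.prime_two (by norm_num) h2C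
      exact ⟨g, hg.trans (by norm_num)⟩
  · -- order 33
    by_cases h3 : 3 ∣ Nat.card H
    · obtain ⟨g, hg⟩ := hF11 G hG H hH h11H 3 Nat.prime_three h3
      exact ⟨g, hg.trans (by norm_num)⟩
    · have h3I : 3 ∣ K.index := ar33 _ _ h12 h3
      have h3C : 3 ∣ Nat.card (Subgroup.centralizer ((P : Subgroup G) : Set G)) := by
        have h1 := h3I.trans hIC
        omega
      obtain ⟨g, hg⟩ := hc2 3 Nat.prime_three (by norm_num) h3C
      exact ⟨g, hg.trans (by norm_num)⟩
  · -- order 15
    by_cases h3 : 3 ∣ Nat.card H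
    · have h5G : 5 ∣ Nat.card G := by
        rw [hG]
        norm_num
      obtain ⟨y, hy⟩ := exists_prime_orderOf_dvd_card' (G := G) 5 h5G
      have hyN : y ∈ Subgroup.normalizer (H : Set G) := by
        rw [Subgroup.normalizer_eq_top]
        exact Subgroup.mem_top y
      obtain ⟨m, hm⟩ := h3
      have h3m : ¬ 3 ∣ m := by
        intro h
        have h9 : 9 ∣ Nat.card H := by
          rw [hm]
          exact Nat.mul_dvd_mul_left 3 h
        have h1 := h9.trans hHd
        norm_num at h1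
      obtain ⟨g, hg⟩ := hLemF G H y 5 3 1 m (by norm_num) (by norm_num) hy hyN h5H
        (by rw [hm, pow_one]) h3m (by decide)
      exact ⟨g, hg.trans (by norm_num)⟩
    · have h3I : 3 ∣ K.index := ar33 _ _ h12 h3
      obtain ⟨Q⟩ : Nonempty (Sylow 5 G) := inferInstance
      have hQ : Nat.card (Q : Subgroup G) = 5 := by
        rw [Sylow.card_eq_multiplicity, hG, fact5, pow_one]
      have hfr5 := hFrat G K hK 5 Q h5I
      obtain ⟨hd1, hd2⟩ := hCent G 5 Q hQ
      have h3C : 3 ∣ Nat.card (Subgroup.centralizer ((Q : Subgroup G) : Set G)) := by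
        have h1 : 3 ∣ 4 * Nat.card (Subgroup.centralizer ((Q : Subgroup G) : Set G)) :=
          h3I.trans (hfr5.trans hd1)
        omega
      obtain ⟨g, hg⟩ := hd2 3 Nat.prime_three (by norm_num) h3C
      exact ⟨g, hg.trans (by norm_num)⟩

end Cfsg.Agent.Lib.Helper15.PGCASE660
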