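import Mathlib
import Cfsg.Agent.Lib.Helper44.PGStmt
import Cfsg.Agent.Lib.Helper45.OmegaCenter
import Cfsg.Agent.Lib.Helper44.NegPairs

/-!
# S2474 / CENTER: `Ω(2n+1, q)` has trivial centre, so `PΩ` has the same element orders
-/

set_option autoImplicit false

namespace Cfsg.Agent.Lib.Helper15.PGCENTER

open Matrix
open Cfsg.Agent.Lib.Helper44.PGStmt Cfsg.Agent.Lib.Helper44.NegPairs
open Cfsg.Agent.Lib.Helper44.QSpace

universe u

theorem center_bot (F : Type u) [Field F] [Fintype F] (h2 : (2 : F) ≠ 0) (n : ℕ) (hn : 2 ≤ n) :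
    Subgroup.center ↥(Cfsg.Omega F (Cfsg.quadFormOdd n F)) = ⊥ := by
  rw [Subgroup.eq_bot_iff_forall]
  intro z hz
  have hc := Cfsg.Agent.Lib.Helper45.OmegaCenter.center_centralizes (Cfsg.quadFormOdd n F) z hz
  have hodd : Fintype.card (Unit ⊕ (Fin n ⊕ Fin n)) = 2 * n + 1 := by
    simp [Fintype.card_sum]; ring
  have hcard : 4 ≤ Fintype.card (Unit ⊕ (Fin n ⊕ Fin n)) := by
    rw [hodd]; omega
  have hdet := Cfsg.Agent.Lib.Helper45.OmegaCenter.det_of_mem_omega (Cfsg.quadFormOdd n F) z.1 z.2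
  rcases Cfsg.Agent.Lib.Helper45.OmegaCenter.centralizer_odd h2 (oddQ n F) (sep_oddQ h2 n) hcard
    z.1 hc with h | h
  · exact Subtype.ext (Subtype.ext (Units.ext h))
  · exfalso
    rw [h] at hdet
    rw [Matrix.det_neg, Matrix.det_one, mul_one, hodd, Odd.neg_one_pow ⟨n, rfl⟩] at hdet
    apply h2
    linear_combination (-1 : F) * hdet

theorem main : BtoPB.{u} := by
  intro F _ _ h2 n hn k hk
  obtain ⟨g, hg, hord⟩ := hk
  have hb := center_bot F h2 n hn
  have hinj : Function.Injective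
      (QuotientGroup.mk' (Subgroup.center ↥(Cfsg.Omega F (Cfsg.quadFormOdd n F)))) := by
    rw [← MonoidHom.ker_eq_bot_iff, QuotientGroup.ker_mk', hb]
  have h1 := orderOf_injective (QuotientGroup.mk' _) hinj
    (⟨g, hg⟩ : ↥(Cfsg.Omega F (Cfsg.quadFormOdd n F)))
  have h2' : orderOf (⟨g, hg⟩ : ↥(Cfsg.Omega F (Cfsg.quadFormOdd n F))) = orderOf g :=
    Subgroup.orderOf_mk g hg
  refine ⟨QuotientGroup.mk' _ ⟨g, hg⟩, ?_⟩
  rw [h1, h2', hord]

end Cfsg.Agent.Lib.Helper15.PGCENTER
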