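import Mathlib
import Cfsg.Agent.Lib.Helper92.PGStmt

set_option autoImplicit false

/-! Piece [F11] of S2490: in a group of order 7920, every prime dividing the order of a normal
`11'`-subgroup is joined to `11`. -/

namespace Cfsg.Agent.Lib.Helper15.PGF11

open Cfsg.Agent.Lib.Helper92.PGStmt

universe u

theorem main : LemF.{u} → F11.{u} := by
  intro hF G _ _ hG N hN h11 r hr hrN
  have hfact : Fact (Nat.Prime 11) := ⟨by norm_num⟩
  have h11G : 11 ∣ Nat.card G := by
    rw [hG]
    norm_num
  obtain ⟨y, hy⟩ := exists_prime_orderOf_dvd_card' (G := G) 11 h11G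
  have hyN : y ∈ Subgroup.normalizer (N : Set G) := by
    rw [Subgroup.normalizer_eq_top]
    exact Subgroup.mem_top y
  have hN0 : Nat.card N ≠ 0 := Nat.card_pos.ne'
  have hNdvd : Nat.card N ∣ 720 := by
    have h1 : Nat.card N ∣ 11 * 720 := by
      have h2 := Subgroup.card_subgroup_dvd_card N
      rw [hG] at h2
      exact h2
    have hcop : Nat.Coprime (Nat.card N) 11 := by
      rw [Nat.coprime_comm]
      exact (Nat.Prime.coprime_iff_not_dvd (by norm_num)).2 h11
    exact hcop.dvd_of_dvd_mul_left h1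
  obtain ⟨k, hk⟩ : ∃ k : ℕ, k = (Nat.card N).factorization r := ⟨_, rfl⟩
  obtain ⟨m, hm⟩ : ∃ m : ℕ, m = Nat.card N / r ^ k := ⟨_, rfl⟩
  have hNkm : Nat.card N = r ^ k * m := by
    rw [hm, hk]
    exact (Nat.ordProj_mul_ordCompl_eq_self (Nat.card N) r).symm
  have hrm : ¬ r ∣ m := by
    rw [hm, hk]
    exact Nat.not_dvd_ordCompl hr hN0
  have hk1 : 1 ≤ k := by
    rw [hk]
    exact (hr.factorization_pos_of_dvd hN0 hrN)
  have hrk : r ^ k ∣ 720 := by
    have h1 : r ^ k ∣ Nat.card N := by
      rw [hNkm]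
      exact Dvd.intro _ rfl
    exact h1.trans hNdvd
  have hr720 : r ∣ 720 := hrN.trans hNdvd
  have hcases : r = 2 ∨ r = 3 ∨ r = 5 := by
    have h1 : r ∣ 2 ^ 4 * (3 ^ 2 * 5) := by
      have : (720 : ℕ) = 2 ^ 4 * (3 ^ 2 * 5) := by norm_num
      rw [← this]
      exact hr720
    rcases (Nat.Prime.dvd_mul hr).1 h1 with h2 | h2
    · left
      exact (Nat.prime_dvd_prime_iff_eq hr Nat.prime_two).1 (hr.dvd_of_dvd_pow h2)
    · rcases (Nat.Prime.dvd_mul hr).1 h2 with h3 | h3
      · right; left
        exact (Nat.prime_dvd_prime_iff_eq hr Nat.prime_three).1 (hr.dvd_of_dvd_pow h3)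
      · right; right
        exact (Nat.prime_dvd_prime_iff_eq hr Nat.prime_five).1 h3
  have hmod : ¬ (r ^ k ≡ 1 [MOD 11]) := by
    rcases hcases with rfl | rfl | rfl
    · have hk4 : k ≤ 4 := by
        by_contra hcon
        push Not at hcon
        have h1 : 2 ^ 5 ∣ 720 := (pow_dvd_pow 2 hcon).trans hrk
        norm_num at h1
      interval_cases k <;> decide
    · have hk2 : k ≤ 2 := by
        by_contra hcon
        push Not at hcon
        have h1 : 3 ^ 3 ∣ 720 := (pow_dvd_pow 3 hcon).trans hrk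
        norm_num at h1
      interval_cases k <;> decide
    · have hk2 : k ≤ 1 := by
        by_contra hcon
        push Not at hcon
        have h1 : 5 ^ 2 ∣ 720 := (pow_dvd_pow 5 hcon).trans hrk
        norm_num at h1
      interval_cases k <;> decide
  exact hF G N y 11 r k m (by norm_num) hr hy hyN h11 hNkm hrm hmod

end Cfsg.Agent.Lib.Helper15.PGF11
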