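import Mathlib
import Cfsg.Agent.Lib.Helper92.PGStmt

set_option autoImplicit false

/-! Piece [STRUCT] of S2490: the chief factor carrying a prime `p` with `p² ∤ |G|`. -/

namespace Cfsg.Agent.Lib.Helper15.PGSTRUCT

open Cfsg.Agent.Lib.Helper92.PGStmt

universe u

theorem card_eq_relIndex_mul {G : Type*} [Group G] (H K : Subgroup G) (h : H ≤ K) :
    Nat.card K = H.relIndex K * Nat.card H := by
  have h1 := Subgroup.card_mul_index (H.subgroupOf K)
  rw [Nat.card_congr (Subgroup.subgroupOfEquivOfLe h).toEquiv] at h1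
  rw [← h1, mul_comm]
  rfl

theorem main : PClos.{u} → PPrime.{u} → Struct.{u} := by
  intro hPC hPP G _ _ p hp hpG hp2
  -- `H`: a normal `p'`-subgroup of largest order
  have hne1 : Nonempty {N : Subgroup G // N.Normal ∧ ¬ p ∣ Nat.card N} :=
    ⟨⟨⊥, inferInstance, by
      rw [Subgroup.card_bot]
      exact fun h => hp.one_lt.ne' (Nat.dvd_one.mp h)⟩⟩
  obtain ⟨⟨H, hHn, hHp⟩, hHmax⟩ := Finite.exists_max
    (fun N : {N : Subgroup G // N.Normal ∧ ¬ p ∣ Nat.card N} => Nat.card (N : Subgroup G))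
  have hle : ∀ N : Subgroup G, N.Normal → ¬ p ∣ Nat.card N → N ≤ H := by
    intro N hN hNp
    have hsup : (H ⊔ N).Normal := Subgroup.sup_normal H N
    have hcard : Nat.card ↥(H ⊔ N) = H.relIndex N * Nat.card H := by
      have h1 := card_eq_relIndex_mul H (H ⊔ N) le_sup_left
      rw [Subgroup.relIndex_sup_left] at h1
      exact h1
    have hnd : ¬ p ∣ Nat.card ↥(H ⊔ N) := by
      rw [hcard]
      intro h
      rcases (Nat.Prime.dvd_mul hp).1 h with h | h
      · exact hNp (h.trans (Subgroup.relIndex_dvd_card H N))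
      · exact hHp h
    have hmax : Nat.card ↥(H ⊔ N) ≤ Nat.card H := hHmax ⟨H ⊔ N, hsup, hnd⟩
    have heq : H = H ⊔ N := Subgroup.eq_of_le_of_card_ge le_sup_left hmax
    rw [heq]
    exact le_sup_right
  -- `K`: a normal subgroup over `H` of order divisible by `p`, of least order
  have hne2 : Nonempty {K : Subgroup G // K.Normal ∧ H ≤ K ∧ p ∣ Nat.card K} :=
    ⟨⟨⊤, inferInstance, le_top, by
      rw [Subgroup.card_top]
      exact hpG⟩⟩
  obtain ⟨⟨K, hKn, hHK, hKp⟩, hKmin⟩ := Finite.exists_min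
    (fun K : {K : Subgroup G // K.Normal ∧ H ≤ K ∧ p ∣ Nat.card K} => Nat.card (K : Subgroup G))
  refine ⟨H, K, hHn, hKn, hHK, hHp, hKp, ?_⟩
  intro M hHM hMK hMnorm
  by_cases hpM : p ∣ Nat.card M
  · right
    obtain ⟨L, hLn, hLM, hpL⟩ := hPC G p hp hp2 K M hKn hMK hMnorm hpM
    have hsup : (H ⊔ L).Normal := Subgroup.sup_normal H L
    have hle1 : H ⊔ L ≤ M := sup_le hHM hLM
    have hp1 : p ∣ Nat.card ↥(H ⊔ L) := hpL.trans (Subgroup.card_dvd_of_le le_sup_right)
    have hmin : Nat.card K ≤ Nat.card ↥(H ⊔ L) := hKmin ⟨H ⊔ L, hsup, le_sup_left, hp1⟩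
    have h2 : Nat.card K ≤ Nat.card M := hmin.trans (Subgroup.card_le_of_le hle1)
    exact Subgroup.eq_of_le_of_card_ge hMK h2
  · left
    obtain ⟨L, hLn, hML, hLK, hpL⟩ := hPP G p hp K M hKn hMK hMnorm hpM
    exact le_antisymm (hML.trans (hle L hLn hpL)) hHM

end Cfsg.Agent.Lib.Helper15.PGSTRUCT
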