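import Cfsg.Agent.Lib.Helper42.ReeSpStmt

/-!
# S1159 / ASM: the spectrum of the small Ree groups from the pieces
-/

set_option autoImplicit false

namespace Cfsg.Agent.Lib.Helper15.ReeSpASM

open Cfsg.Agent.Lib.Helper42.ReeSpStmt

universe u v

theorem orderOf_conj' {G : Type u} [Group G] (z g : G) :
    orderOf (z * g * z⁻¹) = orderOf g := by
  have := orderOf_injective (MulAut.conj z).toMonoidHom (MulAut.conj z).injective g
  simpa [MulAut.conj_apply] using this

theorem exists_of_dvd {G : Type u} [Group G] {n d : ℕ} (hn : 0 < n)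
    (h : ∃ g : G, orderOf g = n) (hd : d ∣ n) : ∃ g : G, orderOf g = d := by
  obtain ⟨g, hg⟩ := h
  refine ⟨g ^ (orderOf g / d), orderOf_pow_orderOf_div ?_ ?_⟩
  · rw [hg]; exact hn.ne'
  · rw [hg]; exact hd

theorem exists_of_cyclic {G : Type u} [Group G] [Finite G] (C : Subgroup G) [IsCyclic ↥C] :
    ∃ g : G, orderOf g = Nat.card ↥C := by
  obtain ⟨g, hg⟩ := IsCyclic.exists_generator (α := ↥C)
  refine ⟨(g : G), ?_⟩
  rw [Subgroup.orderOf_coe]
  exact orderOf_eq_card_of_forall_mem_zpowers hg

theorem sq_sub_one (q : ℕ) (hq : 1 ≤ q) : q ^ 2 - 1 = (q - 1) * (q + 1) := by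
  obtain ⟨k, rfl⟩ : ∃ k, q = k + 1 := ⟨q - 1, by omega⟩
  apply Nat.sub_eq_of_eq_add
  simp only [Nat.add_sub_cancel]
  ring

theorem main : Asm.{u, v} := by
  intro G _ _ U H A K _ _ m hax h3 hE hH hA hX hF d
  obtain ⟨C₁, C₂, hc1, hc2, hn1, hn2, hcov⟩ := hF
  obtain ⟨h6, h9, hq1, hq2⟩ := hX
  have hq3 : 3 ≤ qq m := three_le_qq m
  constructor
  · rintro ⟨g, rfl⟩
    by_cases hd3 : 3 ∣ orderOf g
    · rcases h3 g hd3 with h | h | h
      · left; rw [h]; norm_num
      · left; rw [h]
      · right; left; rw [h]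
    by_cases hd2 : 2 ∣ orderOf g
    · rcases hE g hd2 with h | h | h
      · exact Or.inl h
      · exact Or.inr (Or.inr (Or.inl h))
      · exact Or.inr (Or.inr (Or.inr (Or.inl h)))
    by_cases hcH : Nat.Coprime (orderOf g) (qq m - 1)
    · by_cases hcA : Nat.Coprime (orderOf g) (qq m + 1)
      · by_cases hg1 : g = 1
        · left; rw [hg1, orderOf_one]; exact one_dvd _
        · have hP : P3 G m g := by
            refine ⟨hg1, ?_⟩
            apply Nat.Coprime.mul_right
            · apply Nat.Coprime.pow_right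
              exact ((Nat.Prime.coprime_iff_not_dvd Nat.prime_three).mpr hd3).symm
            · rw [sq_sub_one (qq m) (by omega)]
              exact Nat.Coprime.mul_right hcH hcA
          obtain ⟨x, hx | hx⟩ := hcov g hP
          · right; right; right; right; right
            rw [← hn1, ← orderOf_conj' x g]
            exact Subgroup.orderOf_dvd_natCard _ hx
          · right; right; right; right; left
            rw [← hn2, ← orderOf_conj' x g]
            exact Subgroup.orderOf_dvd_natCard _ hx
      · obtain ⟨p, hp, hpd, hpq⟩ := Nat.Prime.not_coprime_iff_dvd.mp hcA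
        have hp2 : p ≠ 2 := fun h => hd2 (h ▸ hpd)
        obtain ⟨x, hx⟩ := hA g p hp hp2 hpd hpq
        have hdv : orderOf g ∣ qq m + 1 := by
          rw [← hax.cardCA, ← orderOf_conj' x g]
          exact Subgroup.orderOf_dvd_natCard _ hx
        right; right; right; left
        have hodd : Odd (qq m) := Odd.pow (by decide)
        have h2 : qq m + 1 = ((qq m + 1) / 2) * 2 := by
          obtain ⟨k, hk⟩ := hodd
          omega
        rw [h2] at hdv
        exact Nat.Coprime.dvd_of_dvd_mul_right
          ((Nat.Prime.coprime_iff_not_dvd Nat.prime_two).mpr hd2).symm hdv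
    · obtain ⟨p, hp, hpd, hpq⟩ := Nat.Prime.not_coprime_iff_dvd.mp hcH
      have hp2 : p ≠ 2 := fun h => hd2 (h ▸ hpd)
      obtain ⟨x, hx⟩ := hH g p hp hp2 hpd hpq
      right; right; left
      rw [← hax.cardH, ← orderOf_conj' x g]
      exact Subgroup.orderOf_dvd_natCard _ hx
  · rintro (h | h | h | h | h | h)
    · exact exists_of_dvd (by norm_num) h6 h
    · exact exists_of_dvd (by norm_num) h9 h
    · exact exists_of_dvd (by omega) hq1 h
    · exact exists_of_dvd (by omega) hq2 h
    · exact exists_of_dvd (by omega) (by rw [← hn2]; exact exists_of_cyclic C₂) h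
    · exact exists_of_dvd (by omega) (by rw [← hn1]; exact exists_of_cyclic C₁) h

end Cfsg.Agent.Lib.Helper15.ReeSpASM
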