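import Cfsg.Agent.Lib.Helper42.ReeSpStmt

/-!
# S1159 / HALL: centralizers of the elements of order prime to `q(q²-1)` in the small Ree
groups
-/

set_option autoImplicit false

namespace Cfsg.Agent.Lib.Helper15.ReeSpHALL

open Cfsg.Agent.Lib.Helper42.ReeSpStmt

universe u v

theorem orderOf_conj' {G : Type u} [Group G] (z g : G) :
    orderOf (z * g * z⁻¹) = orderOf g := by
  have := orderOf_injective (MulAut.conj z).toMonoidHom (MulAut.conj z).injective g
  simpa [MulAut.conj_apply] using this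

theorem sq_sub_one (q : ℕ) (hq : 1 ≤ q) : q ^ 2 - 1 = (q - 1) * (q + 1) := by
  obtain ⟨k, rfl⟩ : ∃ k, q = k + 1 := ⟨q - 1, by omega⟩
  apply Nat.sub_eq_of_eq_add
  simp only [Nat.add_sub_cancel]
  ring

theorem cube_add_one (q : ℕ) (hq : 1 ≤ q) : q ^ 3 + 1 = (q + 1) * (q ^ 2 - q + 1) := by
  obtain ⟨k, rfl⟩ : ∃ k, q = k + 1 := ⟨q - 1, by omega⟩
  have : (k + 1) ^ 2 - (k + 1) = k ^ 2 + k := by
    apply Nat.sub_eq_of_eq_add
    ring
  rw [this]
  ring

/-- consequences of being coprime to `q(q²-1)` -/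
structure Cop (m n : ℕ) : Prop where
  c2 : Nat.Coprime n 2
  c3 : Nat.Coprime n 3
  cm : Nat.Coprime n (qq m - 1)
  cp : Nat.Coprime n (qq m + 1)
  cbig : Nat.Coprime n (qq m ^ 3 * (qq m - 1) * (qq m + 1))

theorem cop_of (m n : ℕ) (h : Nat.Coprime n (qq m * (qq m ^ 2 - 1))) : Cop m n := by
  have hq3 := three_le_qq m
  rw [sq_sub_one (qq m) (by omega)] at h
  have hq : Nat.Coprime n (qq m) := Nat.Coprime.coprime_dvd_right (Dvd.intro _ rfl) h
  have hm : Nat.Coprime n (qq m - 1) :=
    Nat.Coprime.coprime_dvd_right (Dvd.dvd.mul_left (Dvd.intro _ rfl) _) h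
  have hp : Nat.Coprime n (qq m + 1) :=
    Nat.Coprime.coprime_dvd_right (Dvd.dvd.mul_left (Dvd.intro_left _ rfl) _) h
  have h3 : Nat.Coprime n 3 :=
    Nat.Coprime.coprime_dvd_right (dvd_pow_self 3 (by omega : 2 * m + 1 ≠ 0)) hq
  have h2 : Nat.Coprime n 2 := by
    refine Nat.Coprime.coprime_dvd_right ?_ hm
    obtain ⟨k, hk⟩ : Odd (qq m) := Odd.pow (by decide)
    exact ⟨k, by omega⟩
  exact ⟨h2, h3, hm, hp,
    Nat.Coprime.mul_right (Nat.Coprime.mul_right (Nat.Coprime.pow_right 3 hq) hm) hp⟩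

theorem dvd_Q {G : Type u} [Group G] {U H A : Subgroup G} {K : Type v} [Field K]
    [Fintype K] {m : ℕ} (hax : Ax G U H A K m) {n : ℕ}
    (hc : Nat.Coprime n (qq m * (qq m ^ 2 - 1))) (hdv : n ∣ Nat.card G) :
    n ∣ qq m ^ 2 - qq m + 1 := by
  have hcop := cop_of m n hc
  rw [hax.card, cube_add_one (qq m) (by have := three_le_qq m; omega), ← mul_assoc] at hdv
  exact Nat.Coprime.dvd_of_dvd_mul_left hcop.cbig hdv

/-- a nonidentity element commuting with an element of the third kind is of the third kind -/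
theorem p3_of_commute {G : Type u} [Group G] [Finite G] {U H A : Subgroup G} {K : Type v}
    [Field K] [Fintype K] {m : ℕ} (hax : Ax G U H A K m) (h3 : ThreeC G) (hE : EvenC G m)
    (hH : OddHC G H m) (hA : OddAC G A m) {x y : G} (hx : P3 G m x) (hy : y ≠ 1)
    (hc : Commute x y) : P3 G m y := by
  refine ⟨hy, ?_⟩
  by_contra hnc
  obtain ⟨l, hl, hly, hlM⟩ := Nat.Prime.not_coprime_iff_dvd.mp hnc
  obtain ⟨hx1, hxc⟩ := hx
  have hcop := cop_of m _ hxc
  have hq3 := three_le_qq m
  have hn1 : orderOf x ≠ 1 := by rwa [Ne, orderOf_eq_one_iff]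
  have hyo : orderOf (y ^ (orderOf y / l)) = l :=
    orderOf_pow_orderOf_div (orderOf_pos y).ne' hly
  have hc' : Commute x (y ^ (orderOf y / l)) := hc.pow_right _
  have hcl : Nat.Coprime (orderOf x) l := Nat.Coprime.coprime_dvd_right hlM hxc
  have hord : orderOf (x * y ^ (orderOf y / l)) = orderOf x * l := by
    have := hc'.orderOf_mul_eq_mul_orderOf_of_coprime (by rw [hyo]; exact hcl)
    rw [this, hyo]
  have hldvd : l ∣ orderOf (x * y ^ (orderOf y / l)) := by
    rw [hord]; exact Dvd.intro_left _ rfl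
  rw [sq_sub_one (qq m) (by omega)] at hlM
  by_cases hl3 : l = 3
  · subst hl3
    rcases h3 _ hldvd with h | h | h
    all_goals rw [hord] at h
    · exact hn1 (by omega)
    · have h2 : orderOf x = 2 := by omega
      have h2' := hcop.c2
      rw [h2] at h2'
      exact absurd h2' (by decide)
    · have h2 : orderOf x = 3 := by omega
      have h2' := hcop.c3
      rw [h2] at h2'
      exact absurd h2' (by decide)
  by_cases hl2 : l = 2
  · subst hl2
    rcases hE _ hldvd with h | h | h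
    all_goals rw [hord] at h
    · have h6 : Nat.Coprime (orderOf x) 6 := Nat.Coprime.mul_right hcop.c2 hcop.c3
      exact hn1 (Nat.Coprime.eq_one_of_dvd h6 (dvd_of_mul_right_dvd h))
    · exact hn1 (Nat.Coprime.eq_one_of_dvd hcop.cm (dvd_of_mul_right_dvd h))
    · have hdd : (qq m + 1) / 2 ∣ qq m + 1 := Nat.div_dvd_of_dvd (by
        obtain ⟨k, hk⟩ : Odd (qq m) := Odd.pow (by decide)
        exact ⟨k + 1, by omega⟩)
      exact hn1 (Nat.Coprime.eq_one_of_dvd hcop.cp ((dvd_of_mul_right_dvd h).trans hdd))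
  have hlq : l ∣ qq m - 1 ∨ l ∣ qq m + 1 := by
    rcases (Nat.Prime.dvd_mul hl).mp hlM with h | h
    · exact absurd ((Nat.prime_dvd_prime_iff_eq hl Nat.prime_three).mp
        (hl.dvd_of_dvd_pow h)) hl3
    · exact (Nat.Prime.dvd_mul hl).mp h
  rcases hlq with h | h
  · obtain ⟨z, hz⟩ := hH _ l hl hl2 hldvd h
    have hdv : orderOf x * l ∣ qq m - 1 := by
      rw [← hord, ← hax.cardH, ← orderOf_conj' z]
      exact Subgroup.orderOf_dvd_natCard _ hz
    exact hn1 (Nat.Coprime.eq_one_of_dvd hcop.cm (dvd_of_mul_right_dvd hdv))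
  · obtain ⟨z, hz⟩ := hA _ l hl hl2 hldvd h
    have hdv : orderOf x * l ∣ qq m + 1 := by
      rw [← hord, ← hax.cardCA, ← orderOf_conj' z]
      exact Subgroup.orderOf_dvd_natCard _ hz
    exact hn1 (Nat.Coprime.eq_one_of_dvd hcop.cp (dvd_of_mul_right_dvd hdv))

/-- the order of the centralizer of an element of the third kind is prime to `q(q²-1)` -/
theorem card_cent_coprime {G : Type u} [Group G] [Finite G] {U H A : Subgroup G}
    {K : Type v} [Field K] [Fintype K] {m : ℕ} (hax : Ax G U H A K m) (h3 : ThreeC G)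
    (hE : EvenC G m) (hH : OddHC G H m) (hA : OddAC G A m) {x : G} (hx : P3 G m x) :
    Nat.Coprime (Nat.card ↥(Subgroup.centralizer ({x} : Set G)))
      (qq m * (qq m ^ 2 - 1)) := by
  by_contra hnc
  obtain ⟨l, hl, hlc, hlM⟩ := Nat.Prime.not_coprime_iff_dvd.mp hnc
  haveI := Fact.mk hl
  obtain ⟨y, hy⟩ := exists_prime_orderOf_dvd_card' l hlc
  have hy1 : (y : G) ≠ 1 := by
    intro h
    have h' : y = 1 := Subtype.ext h
    rw [h', orderOf_one] at hy
    exact hl.one_lt.ne hy
  have hyc : Commute x (y : G) := (Subgroup.mem_centralizer_singleton_iff.mp y.2).symm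
  have hP := p3_of_commute hax h3 hE hH hA hx hy1 hyc
  have hco := hP.2
  rw [Subgroup.orderOf_coe, hy] at hco
  exact hl.one_lt.ne' (Nat.Coprime.eq_one_of_dvd hco hlM)

/-- the centralizers of the elements commuting with an element of the third kind of prime
order coincide -/
theorem cent_eq {G : Type u} [Group G] [Finite G] {U H A : Subgroup G} {K : Type v}
    [Field K] [Fintype K] {m : ℕ} (hax : Ax G U H A K m) (h3 : ThreeC G) (hE : EvenC G m)
    (hH : OddHC G H m) (hA : OddAC G A m) (hr1 : RC1C G m) {x : G} (hxP : P3 G m x)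
    {p : ℕ} (hp : p.Prime) (hxo : orderOf x = p) {y : G} (hy : y ≠ 1) (hc : Commute x y) :
    Subgroup.centralizer ({y} : Set G) = Subgroup.centralizer ({x} : Set G) := by
  have hpQ : p ∣ qq m ^ 2 - qq m + 1 :=
    dvd_Q hax (hxo ▸ hxP.2) (hxo ▸ orderOf_dvd_natCard x)
  have hp3 : p ≠ 3 := by
    intro h
    have := (cop_of m _ hxP.2).c3
    rw [hxo, h] at this
    exact absurd this (by decide)
  have habx := hr1 x p hp hp3 hxo hpQ
  have hyP := p3_of_commute hax h3 hE hH hA hxP hy hc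
  have hn1 : orderOf y ≠ 1 := by rwa [Ne, orderOf_eq_one_iff]
  obtain ⟨l, hl, hly⟩ := Nat.exists_prime_and_dvd hn1
  have hyo : orderOf (y ^ (orderOf y / l)) = l :=
    orderOf_pow_orderOf_div (orderOf_pos y).ne' hly
  have hy01 : y ^ (orderOf y / l) ≠ 1 := by
    intro h
    rw [h, orderOf_one] at hyo
    exact hl.one_lt.ne hyo
  have hc0 : Commute x (y ^ (orderOf y / l)) := hc.pow_right _
  have hy0P := p3_of_commute hax h3 hE hH hA hxP hy01 hc0
  have hlQ : l ∣ qq m ^ 2 - qq m + 1 :=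
    dvd_Q hax (hyo ▸ hy0P.2) (hyo ▸ orderOf_dvd_natCard _)
  have hl3 : l ≠ 3 := by
    intro h
    have := (cop_of m _ hy0P.2).c3
    rw [hyo, h] at this
    exact absurd this (by decide)
  have haby := hr1 _ l hl hl3 hyo hlQ
  ext a
  rw [Subgroup.mem_centralizer_singleton_iff, Subgroup.mem_centralizer_singleton_iff]
  constructor
  · intro ha
    have ha0 : Commute a (y ^ (orderOf y / l)) := Commute.pow_right ha _
    exact haby a x ha0 hc0
  · intro ha
    exact habx a y ha hc.symm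

/-- an abelian subgroup of order prime to 6 of a group whose Sylow `p`-subgroups are cyclic
for `p > 3` is cyclic -/
theorem cyclic_of_abelian {G : Type u} [Group G] [Finite G] (C : Subgroup G)
    (hab : ∀ a ∈ C, ∀ b ∈ C, a * b = b * a)
    (h2 : Nat.Coprime (Nat.card ↥C) 2) (h3 : Nat.Coprime (Nat.card ↥C) 3)
    (hcyc : ∀ (p : ℕ) [Fact p.Prime], 3 < p → ∀ P : Sylow p G, IsCyclic ↥(P : Subgroup G)) :
    IsCyclic ↥C := by
  haveI : IsZGroup ↥C := by
    refine ⟨fun p hp P => ?_⟩
    haveI := Fact.mk hp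
    by_cases hp3 : 3 < p
    · have hPG : IsPGroup p ↥((P : Subgroup ↥C).map C.subtype) := P.2.map C.subtype
      obtain ⟨Q, hQ⟩ := hPG.exists_le_sylow
      haveI := hcyc p hp3 Q
      haveI : IsCyclic ↥((P : Subgroup ↥C).map C.subtype) := Subgroup.isCyclic_of_le hQ
      exact isCyclic_of_injective
        ((P : Subgroup ↥C).equivMapOfInjective C.subtype C.subtype_injective).toMonoidHom
        (MulEquiv.injective _)
    · have hp23 : p = 2 ∨ p = 3 := by
        have := hp.two_le
        omega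
      have hcop : Nat.Coprime (Nat.card ↥C) p := by
        rcases hp23 with rfl | rfl <;> assumption
      obtain ⟨k, hk⟩ := IsPGroup.iff_card.mp P.2
      have hdv : Nat.card ↥(P : Subgroup ↥C) ∣ Nat.card ↥C := Subgroup.card_subgroup_dvd_card _
      have h1 : Nat.card ↥(P : Subgroup ↥C) = 1 := by
        rcases Nat.eq_zero_or_pos k with hk0 | hkpos
        · rw [hk, hk0, pow_zero]
        · exfalso
          have hpd : p ∣ Nat.card ↥C := (dvd_pow_self p hkpos.ne').trans (hk ▸ hdv)
          exact hp.one_lt.ne' (Nat.Coprime.eq_one_of_dvd hcop.symm hpd)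
      haveI : Subsingleton ↥(P : Subgroup ↥C) := (Nat.card_eq_one_iff_unique.mp h1).1
      exact isCyclic_of_subsingleton
  haveI : Group.IsNilpotent ↥C := by
    letI : CommGroup ↥C :=
      { (inferInstance : Group ↥C) with
        mul_comm := fun a b => Subtype.ext (hab a a.2 b b.2) }
    exact CommGroup.isNilpotent
  infer_instance

/-- the normalizer of a cyclic subgroup normalizes each of its cyclic subgroups -/
theorem normalizer_le {G : Type u} [Group G] (C : Subgroup G) [IsCyclic ↥C] {x : G}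
    (hxC : x ∈ C) :
    Subgroup.normalizer (C : Set G) ≤ Subgroup.normalizer (Subgroup.zpowers x : Set G) := by
  have key : ∀ n ∈ Subgroup.normalizer (C : Set G), ∀ h ∈ Subgroup.zpowers x,
      n * h * n⁻¹ ∈ Subgroup.zpowers x := by
    intro n hn h hh
    have hmem : ∀ c : ↥C, n * (c : G) * n⁻¹ ∈ C := fun c =>
      (Subgroup.mem_normalizer_iff.mp hn (c : G)).mp c.2
    obtain ⟨mz, hmz⟩ := MonoidHom.map_cyclic
      (MonoidHom.codRestrict ((MulAut.conj n).toMonoidHom.comp C.subtype) C hmem)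
    have hx' := congrArg (Subtype.val) (hmz ⟨x, hxC⟩)
    have hx'' : n * x * n⁻¹ = x ^ mz := by simpa using hx'
    obtain ⟨k, rfl⟩ := Subgroup.mem_zpowers_iff.mp hh
    rw [← conj_zpow, hx'']
    exact Subgroup.zpow_mem _ (Subgroup.zpow_mem _ (Subgroup.mem_zpowers x) _) _
  intro n hn
  rw [Subgroup.mem_normalizer_iff]
  intro h
  constructor
  · exact key n hn h
  · intro hh
    have := key n⁻¹ (inv_mem hn) _ hh
    simpa [mul_assoc] using this

theorem main : Hall.{u, v} := by
  intro G _ _ U H A K _ _ m hax h3 hE hH hA hr1 hr2 g hg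
  have hg1 := hg.1
  have hgc := hg.2
  have hn1 : orderOf g ≠ 1 := by rwa [Ne, orderOf_eq_one_iff]
  obtain ⟨p, hp, hpn⟩ := Nat.exists_prime_and_dvd hn1
  obtain ⟨x, hxdef⟩ : ∃ x : G, x = g ^ (orderOf g / p) := ⟨_, rfl⟩
  have hxo : orderOf x = p := by
    rw [hxdef]
    exact orderOf_pow_orderOf_div (orderOf_pos g).ne' hpn
  have hx1 : x ≠ 1 := by
    intro h
    rw [h, orderOf_one] at hxo
    exact hp.one_lt.ne hxo
  have hxP : P3 G m x := ⟨hx1, by rw [hxo]; exact Nat.Coprime.coprime_dvd_left hpn hgc⟩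
  have hcx : Commute x g := by
    rw [hxdef]
    exact (Commute.refl g).pow_left _
  have hpQ : p ∣ qq m ^ 2 - qq m + 1 :=
    dvd_Q hax (hxo ▸ hxP.2) (hxo ▸ orderOf_dvd_natCard x)
  have hp3 : p ≠ 3 := by
    intro h
    have := (cop_of m _ hxP.2).c3
    rw [hxo, h] at this
    exact absurd this (by decide)
  have hCg : Subgroup.centralizer ({g} : Set G) = Subgroup.centralizer ({x} : Set G) :=
    cent_eq hax h3 hE hH hA hr1 hxP hp hxo hg1 hcx
  rw [hCg]
  have habx := hr1 x p hp hp3 hxo hpQ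
  have hab : ∀ a ∈ Subgroup.centralizer ({x} : Set G),
      ∀ b ∈ Subgroup.centralizer ({x} : Set G), a * b = b * a := by
    intro a ha b hb
    exact habx a b (Subgroup.mem_centralizer_singleton_iff.mp ha)
      (Subgroup.mem_centralizer_singleton_iff.mp hb)
  have hcc := card_cent_coprime hax h3 hE hH hA hxP
  have hcop := cop_of m _ hcc
  haveI hcyc : IsCyclic ↥(Subgroup.centralizer ({x} : Set G)) :=
    cyclic_of_abelian _ hab hcop.c2 hcop.c3 hax.cycSyl
  refine ⟨hab, hcyc, dvd_Q hax hcc (Subgroup.card_subgroup_dvd_card _), ?_, ?_⟩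
  · intro y hy hy1
    exact cent_eq hax h3 hE hH hA hr1 hxP hp hxo hy1
      (Subgroup.mem_centralizer_singleton_iff.mp hy).symm
  · have hxC : x ∈ Subgroup.centralizer ({x} : Set G) :=
      Subgroup.mem_centralizer_singleton_iff.mpr rfl
    exact (Subgroup.card_dvd_of_le (normalizer_le _ hxC)).trans (hr2 x p hp hp3 hxo hpQ)

end Cfsg.Agent.Lib.Helper15.ReeSpHALL
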