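import Mathlib
import Cfsg.Agent.Lib.Helper9.S63Stmt

/-!
# S1363 / NORMCOND (call by helper9)

Normalizer condition inside a nilpotent subgroup `Q`.
-/

set_option autoImplicit false

universe u

namespace Cfsg.Agent.Lib.Helper15.S63NORMCOND

open Cfsg.Agent.Lib.Helper9.S63Stmt

theorem main : NormCond.{u} := by
  intro G _ _ Q V hnil hVQ hne
  have hlt : V.subgroupOf Q < ⊤ := by
    rw [lt_top_iff_ne_top]
    intro h
    rw [Subgroup.subgroupOf_eq_top] at h
    exact hne (le_antisymm hVQ h)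
  have hNC := Group.normalizerCondition_of_isNilpotent (G := ↥Q) (V.subgroupOf Q) hlt
  obtain ⟨g, hgN, hgV⟩ := SetLike.exists_of_lt hNC
  refine ⟨(g : G), g.2, ?_, ?_⟩
  · intro hg
    exact hgV (Subgroup.mem_subgroupOf.mpr hg)
  · rw [Subgroup.mem_normalizer_iff] at hgN ⊢
    intro h
    constructor
    · intro hh
      have h1 := (hgN ⟨h, hVQ hh⟩).1 (Subgroup.mem_subgroupOf.mpr hh)
      exact Subgroup.mem_subgroupOf.mp h1
    · intro hh
      have hhQ : h ∈ Q := by
        have h2 : (g : G)⁻¹ * ((g : G) * h * (g : G)⁻¹) * (g : G) ∈ Q :=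
          Q.mul_mem (Q.mul_mem (Q.inv_mem g.2) (hVQ hh)) g.2
        have h3 : (g : G)⁻¹ * ((g : G) * h * (g : G)⁻¹) * (g : G) = h := by group
        rwa [h3] at h2
      have h1 := (hgN ⟨h, hhQ⟩).2 (Subgroup.mem_subgroupOf.mpr hh)
      exact Subgroup.mem_subgroupOf.mp h1

end Cfsg.Agent.Lib.Helper15.S63NORMCOND
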