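import Mathlib
import Cfsg.Agent.Lib.Helper9.S63Stmt

/-!
# S1363 / POW (call by helper9)

Commuting elements of coprime orders are powers of their product.
-/

set_option autoImplicit false

universe u

namespace Cfsg.Agent.Lib.Helper15.S63POW

open Cfsg.Agent.Lib.Helper9.S63Stmt

theorem aux {G : Type u} [Group G] (x ρ : G) (hc : Commute x ρ)
    (hcop : (orderOf x).Coprime (orderOf ρ)) : x ∈ Subgroup.zpowers (x * ρ) := by
  have h1 : ((orderOf x : ℕ) : ℤ) * Nat.gcdA (orderOf x) (orderOf ρ) +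
      ((orderOf ρ : ℕ) : ℤ) * Nat.gcdB (orderOf x) (orderOf ρ) = 1 := by
    have h := Nat.gcd_eq_gcd_ab (orderOf x) (orderOf ρ)
    rw [Nat.Coprime.gcd_eq_one hcop] at h
    rw [← h]
    norm_num
  have h2 : (x * ρ) ^ (orderOf ρ) = x ^ (orderOf ρ) := by
    rw [hc.mul_pow, pow_orderOf_eq_one, mul_one]
  have hA : x ^ (((orderOf x : ℕ) : ℤ) * Nat.gcdA (orderOf x) (orderOf ρ)) = 1 := by
    rw [zpow_mul, zpow_natCast, pow_orderOf_eq_one x, one_zpow]
  have hB : x ^ (((orderOf ρ : ℕ) : ℤ) * Nat.gcdB (orderOf x) (orderOf ρ)) =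
      (x ^ (orderOf ρ)) ^ (Nat.gcdB (orderOf x) (orderOf ρ)) := by
    rw [zpow_mul, zpow_natCast]
  have h3 : x = (x ^ (orderOf ρ)) ^ (Nat.gcdB (orderOf x) (orderOf ρ)) := by
    calc x = x ^ (1 : ℤ) := (zpow_one x).symm
      _ = x ^ (((orderOf x : ℕ) : ℤ) * Nat.gcdA (orderOf x) (orderOf ρ) +
          ((orderOf ρ : ℕ) : ℤ) * Nat.gcdB (orderOf x) (orderOf ρ)) := by rw [h1]
      _ = (x ^ (orderOf ρ)) ^ (Nat.gcdB (orderOf x) (orderOf ρ)) := by
        rw [zpow_add, hA, hB, one_mul]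
  have h5 : ((x * ρ) ^ (orderOf ρ)) ^ (Nat.gcdB (orderOf x) (orderOf ρ)) ∈
      Subgroup.zpowers (x * ρ) :=
    Subgroup.zpow_mem _ (Subgroup.pow_mem _ (Subgroup.mem_zpowers (x * ρ)) _) _
  rw [h2, ← h3] at h5
  exact h5

theorem main : Pow.{u} := by
  intro G _ _ x ρ h hcop
  have hc : Commute x ρ := h
  refine ⟨aux x ρ hc hcop, ?_⟩
  rw [h]
  exact aux ρ x hc.symm hcop.symm

end Cfsg.Agent.Lib.Helper15.S63POW
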