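import Mathlib
import Cfsg.Agent.Lib.Helper23.S69Stmt

/-! S1369 piece CCONJ (pure group theory). -/

set_option autoImplicit false
universe u

namespace Cfsg.Agent.Lib.Helper15.S69CCONJ

open Cfsg Cfsg.Agent.Lib.Helper23.S69Stmt Cfsg.Agent.Lib.Helper54.S68Stmt

theorem main : CConj.{u} := by
  intro G _ h z
  ext x
  rw [Subgroup.mem_map]
  simp only [Subgroup.mem_centralizer_iff, Set.mem_singleton_iff, forall_eq]
  constructor
  · intro hx
    refine ⟨h⁻¹ * x * h, ?_, ?_⟩
    · have : z * (h⁻¹ * x * h) = h⁻¹ * ((h * z * h⁻¹) * x) * h := by group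
      rw [this, hx]; group
    · simp only [MulEquiv.coe_toMonoidHom, MulAut.conj_apply]; group
  · rintro ⟨y, hy, rfl⟩
    simp only [MulEquiv.coe_toMonoidHom, MulAut.conj_apply]
    calc h * z * h⁻¹ * (h * y * h⁻¹) = h * (z * y) * h⁻¹ := by group
      _ = h * (y * z) * h⁻¹ := by rw [hy]
      _ = _ := by group

end Cfsg.Agent.Lib.Helper15.S69CCONJ
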