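import Mathlib
import Cfsg.Agent.Lib.Helper23.S69Stmt

/-! S1369 piece CENTCONJ (pure group theory). -/

set_option autoImplicit false
universe u

namespace Cfsg.Agent.Lib.Helper15.S69CENTCONJ

open Cfsg Cfsg.Agent.Lib.Helper23.S69Stmt Cfsg.Agent.Lib.Helper54.S68Stmt

theorem main : CentConj.{u} := by
  intro G _ h X N hle x hx
  rw [Subgroup.mem_map]
  refine ⟨h⁻¹ * x * h, hle ?_, ?_⟩
  · rw [Subgroup.mem_centralizer_iff]
    rintro _ ⟨y, hy, rfl⟩
    have hxy := (Subgroup.mem_centralizer_iff.mp hx) y hy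
    simp only [MulEquiv.coe_toMonoidHom, MulAut.conj_apply, inv_inv]
    calc h⁻¹ * y * h * (h⁻¹ * x * h) = h⁻¹ * (y * x) * h := by group
      _ = h⁻¹ * (x * y) * h := by rw [hxy]
      _ = _ := by group
  · simp only [MulEquiv.coe_toMonoidHom, MulAut.conj_apply]; group

end Cfsg.Agent.Lib.Helper15.S69CENTCONJ
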