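import Mathlib
import Cfsg.Agent.Lib.Helper54.S72Stmt

/-!
# S1372 / TSYL (call by helper54)

`S ≤ M` nilpotent, `M ≤ N(S)`, `x ∈ S` of prime order `t`: the (unique, normal) Sylow
`t`-subgroup of `S` contains `x` and its image in `G` is normalized by `M`.
-/

set_option autoImplicit false
set_option maxHeartbeats 400000

namespace Cfsg.Agent.Lib.Helper15.S72TSYL

open Cfsg.Agent.Lib.Helper54.S72Stmt

universe u

theorem main : TSyl.{u} := by
  intro G _ _ M S hSM hMS hnil t _ x hxS hxt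
  classical
  obtain ⟨T₀⟩ : Nonempty (Sylow t ↥S) := inferInstance
  have h03 := (Group.isNilpotent_of_finite_tfae (G := ↥S)).out 0 3
  have hall : ∀ (p : ℕ) [Fact p.Prime] (P : Sylow p ↥S), (P : Subgroup ↥S).Normal :=
    h03.mp hnil
  have hnorm : (T₀ : Subgroup ↥S).Normal := hall t T₀
  have huniq : ∀ Q : Sylow t ↥S, Q = T₀ := by
    intro Q
    have := Sylow.unique_of_normal T₀ hnorm
    exact Subsingleton.elim _ _
  have hchar : ∀ g : G, g ∈ (T₀ : Subgroup ↥S).map S.subtype ↔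
      g ∈ S ∧ ∃ k : ℕ, orderOf g = t ^ k := by
    intro g
    constructor
    · rintro ⟨s, hs, rfl⟩
      refine ⟨s.2, ?_⟩
      obtain ⟨k, hk⟩ := (IsPGroup.iff_orderOf.mp T₀.isPGroup') ⟨s, hs⟩
      refine ⟨k, ?_⟩
      rw [← hk]
      simp
    · rintro ⟨hgS, k, hk⟩
      have hP : IsPGroup t (Subgroup.zpowers (⟨g, hgS⟩ : ↥S)) := by
        apply IsPGroup.of_card (n := k)
        rw [Nat.card_zpowers, ← hk]
        exact Subgroup.orderOf_mk g hgS
      obtain ⟨Q, hQ⟩ := hP.exists_le_sylow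
      rw [huniq Q] at hQ
      exact ⟨⟨g, hgS⟩, hQ (Subgroup.mem_zpowers _), rfl⟩
  refine ⟨T₀, (hchar x).2 ⟨hxS, 1, by rw [hxt, pow_one]⟩, ?_⟩
  intro m hm
  have hmS := hMS hm
  rw [Subgroup.mem_normalizer_iff] at hmS ⊢
  intro h
  have hord : orderOf (m * h * m⁻¹) = orderOf h := by
    have := (MulAut.conj m).orderOf_eq h
    rwa [MulAut.conj_apply] at this
  constructor
  · intro hh
    obtain ⟨h1, k, hk⟩ := (hchar h).1 hh
    exact (hchar _).2 ⟨(hmS h).1 h1, k, by rw [hord, hk]⟩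
  · intro hh
    obtain ⟨h1, k, hk⟩ := (hchar _).1 hh
    exact (hchar h).2 ⟨(hmS h).2 h1, k, by rw [← hord, hk]⟩

end Cfsg.Agent.Lib.Helper15.S72TSYL
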