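import Mathlib
import Cfsg.Prelude.Def_PLocal
import Cfsg.Agent.Lib.Helper4.SchDefs

set_option autoImplicit false

/-! Piece [B1] of S4394: in a group of type `SEP`, every subgroup containing the centre is a
best offender target (centralizer counting). -/

namespace Cfsg.Agent.Lib.Helper15.SchB1

open Cfsg.Agent.Lib.Helper4.SchDefs

/-- the number of elements of a finite group lying in a subgroup -/
theorem card_filter_mem {A : Type*} [Group A] [Fintype A] (H : Subgroup A)
    [DecidablePred (· ∈ H)] :
    (Finset.univ.filter (fun a : A => a ∈ H)).card = Nat.card H := by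
  rw [Nat.card_eq_fintype_card, Fintype.card_subtype]

/-- centralizer counting: `|Y| |C_T(Y)| ≤ |T| |Z(T)|` for `Z(T) ≤ Y`, if all the commutator maps
`s ↦ [s, x]`, `x ∉ Z(T)`, are onto `Z(T)`. -/
theorem CL {T : Type*} [Group T] [Finite T]
    (h1 : ∀ a b : T, a * b * a⁻¹ * b⁻¹ ∈ Subgroup.center T)
    (h4 : ∀ x : T, x ∉ Subgroup.center T → ∀ z ∈ Subgroup.center T,
      ∃ s : T, s * x * s⁻¹ * x⁻¹ = z)
    (Y : Subgroup T) (hZY : Subgroup.center T ≤ Y) :
    Nat.card Y * Nat.card (Subgroup.centralizer (Y : Set T)) ≤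
      Nat.card T * Nat.card (Subgroup.center T) := by
  classical
  have hfin : Fintype T := Fintype.ofFinite T
  by_cases hab : ∀ x : T, x ∈ Subgroup.center T
  · have htop : Subgroup.center T = ⊤ := by
      rw [eq_top_iff]
      intro x _
      exact hab x
    rw [htop, Subgroup.card_top]
    exact Nat.mul_le_mul (Subgroup.card_le_card_group Y) (Subgroup.card_le_card_group _)
  push Not at hab
  obtain ⟨x₀, hx₀⟩ := hab
  -- the commutator homomorphisms
  obtain ⟨φ, hφ⟩ : ∃ φ : T → T →* ↥(Subgroup.center T),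
      ∀ x s, ((φ x s : ↥(Subgroup.center T)) : T) = s * x * s⁻¹ * x⁻¹ := by
    refine ⟨fun x =>
      { toFun := fun s => ⟨s * x * s⁻¹ * x⁻¹, h1 s x⟩
        map_one' := by
          apply Subtype.ext
          show 1 * x * 1⁻¹ * x⁻¹ = 1
          group
        map_mul' := by
          intro s s'
          apply Subtype.ext
          show (s * s') * x * (s * s')⁻¹ * x⁻¹ = (s * x * s⁻¹ * x⁻¹) * (s' * x * s'⁻¹ * x⁻¹)
          obtain ⟨c, hc⟩ : ∃ c : T, c = s' * x * s'⁻¹ * x⁻¹ := ⟨_, rfl⟩
          have hcc : c ∈ Subgroup.center T := by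
            rw [hc]
            exact h1 s' x
          have e1 : s * c = c * s := Subgroup.mem_center_iff.1 hcc s
          have e2 : (s * x * s⁻¹ * x⁻¹) * c = c * (s * x * s⁻¹ * x⁻¹) :=
            Subgroup.mem_center_iff.1 hcc _
          rw [← hc, e2]
          have e3 : (s * s') * x * (s * s')⁻¹ * x⁻¹ = s * c * (x * s⁻¹ * x⁻¹) := by
            rw [hc]
            group
          rw [e3, e1]
          group }, fun x s => rfl⟩
  have hker : ∀ x : T, (φ x).ker = Subgroup.centralizer ({x} : Set T) := by
    intro x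
    ext s
    rw [MonoidHom.mem_ker, Subgroup.mem_centralizer_iff]
    constructor
    · intro h y hy
      rw [Set.mem_singleton_iff] at hy
      rw [hy]
      have h2 : s * x * s⁻¹ * x⁻¹ = 1 := by
        rw [← hφ x s, h]
        rfl
      calc x * s = (s * x * s⁻¹ * x⁻¹)⁻¹ * (s * x) := by group
        _ = s * x := by rw [h2, inv_one, one_mul]
    · intro h
      have h2 : x * s = s * x := h x rfl
      apply Subtype.ext
      rw [hφ x s, ← h2]
      show x * s * s⁻¹ * x⁻¹ = 1
      group
  obtain ⟨z, hz⟩ : ∃ z : ℕ, z = Nat.card (Subgroup.center T) := ⟨_, rfl⟩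
  obtain ⟨t, ht⟩ : ∃ t : ℕ, t = Nat.card T := ⟨_, rfl⟩
  obtain ⟨cT, hcT⟩ : ∃ cT : T → ℕ, ∀ y, cT y = Nat.card (Subgroup.centralizer ({y} : Set T)) :=
    ⟨_, fun _ => rfl⟩
  obtain ⟨cY, hcY⟩ : ∃ cY : T → ℕ,
      ∀ s, cY s = Nat.card ((Subgroup.centralizer ({s} : Set T)).subgroupOf Y) :=
    ⟨_, fun _ => rfl⟩
  -- (a)
  have ha : ∀ x : T, x ∉ Subgroup.center T → cT x * z = t := by
    intro x hx
    have hsurj : Function.Surjective (φ x) := by
      rintro ⟨w, hw⟩
      obtain ⟨s, hs⟩ := h4 x hx w hw
      exact ⟨s, Subtype.ext (by rw [hφ x s, hs])⟩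
    have h := Subgroup.card_mul_index (φ x).ker
    rw [Subgroup.index_ker, hker, MonoidHom.range_eq_top.2 hsurj, Subgroup.card_top] at h
    rw [hcT, hz, ht]
    exact h
  have ha' : ∀ x : T, x ∈ Subgroup.center T → cT x = t := by
    intro x hx
    have h : Subgroup.centralizer ({x} : Set T) = ⊤ := by
      rw [Subgroup.centralizer_eq_top_iff_subset]
      intro y hy
      rw [Set.mem_singleton_iff] at hy
      rw [hy]
      exact hx
    rw [hcT, h, Subgroup.card_top, ht]
  -- (b)
  have hb : ∀ s : T, Nat.card Y ≤ cY s * z := by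
    intro s
    have h := Subgroup.card_mul_index ((φ s).ker.subgroupOf Y)
    have h2 : ((φ s).ker.subgroupOf Y).index = Nat.card (Y.map (φ s)) := Subgroup.relIndex_ker Y (φ s)
    have h3 : Nat.card (Y.map (φ s)) ≤ z := by
      rw [hz]
      exact Subgroup.card_le_card_group _
    rw [h2, hker] at h
    rw [hcY, ← h]
    exact Nat.mul_le_mul_left _ h3
  have hb' : ∀ s : T, s ∈ Subgroup.centralizer (Y : Set T) → cY s = Nat.card Y := by
    intro s hs
    have h : (Subgroup.centralizer ({s} : Set T)).subgroupOf Y = ⊤ := by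
      rw [Subgroup.subgroupOf_eq_top]
      intro y hy
      rw [Subgroup.mem_centralizer_iff]
      intro w hw
      rw [Set.mem_singleton_iff] at hw
      rw [hw]
      exact (Subgroup.mem_centralizer_iff.1 hs y hy).symm
    rw [hcY, h, Subgroup.card_top]
  -- z ≥ 2
  have hz1 : 1 ≤ z := by
    rw [hz]
    exact Nat.card_pos
  have hzne : z ≠ 1 := by
    intro h1z
    have h := ha x₀ hx₀
    rw [h1z, mul_one, hcT, ht] at h
    have h2 : Subgroup.centralizer ({x₀} : Set T) = ⊤ := Subgroup.card_eq_iff_eq_top _ |>.1 h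
    rw [Subgroup.centralizer_eq_top_iff_subset] at h2
    exact hx₀ (h2 (Set.mem_singleton x₀))
  obtain ⟨z', hz'⟩ : ∃ z' : ℕ, z = z' + 1 := ⟨z - 1, by omega⟩
  have hz'pos : 0 < z' := by omega
  -- the double count
  have hcTsum : ∀ y : T, cT y = ∑ s : T, if y * s = s * y then 1 else 0 := by
    intro y
    rw [hcT, ← card_filter_mem, Finset.card_filter]
    apply Finset.sum_congr rfl
    intro s _
    have : s ∈ Subgroup.centralizer ({y} : Set T) ↔ y * s = s * y := by
      rw [Subgroup.mem_centralizer_iff]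
      constructor
      · intro h
        exact h y rfl
      · intro h w hw
        rw [Set.mem_singleton_iff] at hw
        rw [hw]
        exact h
    simp only [this]
  have hcYsum : ∀ s : T, cY s = ∑ y : ↥Y, if (y : T) * s = s * y then 1 else 0 := by
    intro s
    rw [hcY, ← card_filter_mem, Finset.card_filter]
    apply Finset.sum_congr rfl
    intro y _
    have : y ∈ (Subgroup.centralizer ({s} : Set T)).subgroupOf Y ↔ (y : T) * s = s * y := by
      rw [Subgroup.mem_subgroupOf, Subgroup.mem_centralizer_iff]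
      constructor
      · intro h
        exact (h s rfl).symm
      · intro h w hw
        rw [Set.mem_singleton_iff] at hw
        rw [hw]
        exact h.symm
    simp only [this]
  have hN : ∑ y : ↥Y, cT y = ∑ s : T, cY s := by
    simp only [hcTsum, hcYsum]
    exact Finset.sum_comm
  -- first sum
  have hS1 : ∑ y : ↥Y, z * cT y = Nat.card Y * t + z * (z' * t) := by
    have hterm : ∀ y : ↥Y, z * cT y = t + (if y ∈ (Subgroup.center T).subgroupOf Y
        then z' * t else 0) := by
      intro y
      by_cases hy : (y : T) ∈ Subgroup.center T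
      · rw [if_pos (Subgroup.mem_subgroupOf.2 hy), ha' _ hy, hz']
        ring
      · rw [if_neg (fun h => hy (Subgroup.mem_subgroupOf.1 h)), add_zero, mul_comm]
        exact ha _ hy
    rw [Finset.sum_congr rfl (fun y _ => hterm y), Finset.sum_add_distrib, Finset.sum_const,
      Finset.card_univ, smul_eq_mul, ← Finset.sum_filter, Finset.sum_const, smul_eq_mul,
      card_filter_mem, ← Nat.card_eq_fintype_card]
    have e : Nat.card ((Subgroup.center T).subgroupOf Y) = z := by
      rw [hz]
      exact Nat.card_congr (Subgroup.subgroupOfEquivOfLe hZY).toEquiv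
    rw [e]
  -- second sum
  have hS2 : t * Nat.card Y + Nat.card (Subgroup.centralizer (Y : Set T)) * (z' * Nat.card Y) ≤
      ∑ s : T, z * cY s := by
    have hterm : ∀ s : T, Nat.card Y + (if s ∈ Subgroup.centralizer (Y : Set T)
        then z' * Nat.card Y else 0) ≤ z * cY s := by
      intro s
      by_cases hs : s ∈ Subgroup.centralizer (Y : Set T)
      · rw [if_pos hs, hb' s hs, hz']
        apply le_of_eq
        ring
      · rw [if_neg hs, add_zero, mul_comm]
        exact hb s
    refine le_trans (le_of_eq ?_) (Finset.sum_le_sum (fun s _ => hterm s))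
    rw [Finset.sum_add_distrib, Finset.sum_const, Finset.card_univ, smul_eq_mul,
      ← Finset.sum_filter, Finset.sum_const, smul_eq_mul, card_filter_mem,
      ← Nat.card_eq_fintype_card, ht]
  have hfinal : Nat.card (Subgroup.centralizer (Y : Set T)) * (z' * Nat.card Y) ≤
      z * (z' * t) := by
    have h := hS2
    rw [← Finset.mul_sum, ← hN, Finset.mul_sum, hS1] at h
    have h' : t * Nat.card Y = Nat.card Y * t := mul_comm _ _
    omega
  have hfin2 : z' * (Nat.card Y * Nat.card (Subgroup.centralizer (Y : Set T))) ≤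
      z' * (Nat.card T * Nat.card (Subgroup.center T)) := by
    rw [← ht, ← hz]
    calc z' * (Nat.card Y * Nat.card (Subgroup.centralizer (Y : Set T)))
        = Nat.card (Subgroup.centralizer (Y : Set T)) * (z' * Nat.card Y) := by ring
      _ ≤ z * (z' * t) := hfinal
      _ = z' * (t * z) := by ring
  exact Nat.le_of_mul_le_mul_left hfin2 hz'pos

theorem isBestOffenderOn_of_sep {G : Type*} [Group G] [Finite G] (p : ℕ)
    (S W : Subgroup G) (hS : SEP p ↥S) (hZW : (Subgroup.center ↥S).map S.subtype ≤ W)
    (hWS : W ≤ S) : Cfsg.IsBestOffenderOn p W S := by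
  obtain ⟨h1, h2, -, h4, -⟩ := hS
  refine ⟨?_, ?_, ?_⟩
  · intro B hB
    have hWC : W ⊓ Subgroup.centralizer (S : Set G) = (Subgroup.center ↥S).map S.subtype := by
      ext g
      constructor
      · intro hg
        obtain ⟨hgW, hgC⟩ := Subgroup.mem_inf.1 hg
        refine ⟨⟨g, hWS hgW⟩, ?_, rfl⟩
        rw [SetLike.mem_coe, Subgroup.mem_center_iff]
        intro a
        apply Subtype.ext
        exact Subgroup.mem_centralizer_iff.1 hgC a a.2
      · intro hg
        refine Subgroup.mem_inf.2 ⟨hZW hg, ?_⟩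
        obtain ⟨c, hc, rfl⟩ := hg
        rw [Subgroup.mem_centralizer_iff]
        intro a ha
        have h := Subgroup.mem_center_iff.1 hc ⟨a, ha⟩
        exact congrArg Subtype.val h
    rw [hWC]
    have hcZ : Nat.card ↥((Subgroup.center ↥S).map S.subtype) = Nat.card (Subgroup.center ↥S) :=
      Subgroup.card_map_of_injective S.subtype_injective
    obtain ⟨Y, hY⟩ : ∃ Y : Subgroup ↥S,
        Y = (W ⊓ Subgroup.centralizer (B : Set G)).subgroupOf S := ⟨_, rfl⟩
    have hYc : Nat.card Y = Nat.card ↥(W ⊓ Subgroup.centralizer (B : Set G)) := by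
      rw [hY]
      exact Nat.card_congr (Subgroup.subgroupOfEquivOfLe (inf_le_left.trans hWS)).toEquiv
    have hZY : Subgroup.center ↥S ≤ Y := by
      intro c hc
      rw [hY, Subgroup.mem_subgroupOf]
      refine Subgroup.mem_inf.2 ⟨hZW ⟨c, hc, rfl⟩, ?_⟩
      rw [Subgroup.mem_centralizer_iff]
      intro b hb
      have h := Subgroup.mem_center_iff.1 hc ⟨b, hB hb⟩
      exact congrArg Subtype.val h
    have hBc : Nat.card B ≤ Nat.card (Subgroup.centralizer (Y : Set ↥S)) := by
      have e : Nat.card (B.subgroupOf S) = Nat.card B :=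
        Nat.card_congr (Subgroup.subgroupOfEquivOfLe hB).toEquiv
      rw [← e]
      apply Subgroup.card_le_of_le
      intro b hb
      rw [Subgroup.mem_centralizer_iff]
      intro y hy
      rw [SetLike.mem_coe, hY, Subgroup.mem_subgroupOf] at hy
      have hy' := (Subgroup.mem_inf.1 hy).2
      have h := Subgroup.mem_centralizer_iff.1 hy' b (Subgroup.mem_subgroupOf.1 hb)
      apply Subtype.ext
      exact h.symm
    have hCL := CL h1 h4 Y hZY
    calc Nat.card B * Nat.card ↥(W ⊓ Subgroup.centralizer (B : Set G))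
        ≤ Nat.card (Subgroup.centralizer (Y : Set ↥S)) * Nat.card Y := by
          rw [hYc]
          exact Nat.mul_le_mul_right _ hBc
      _ = Nat.card Y * Nat.card (Subgroup.centralizer (Y : Set ↥S)) := mul_comm _ _
      _ ≤ Nat.card ↥S * Nat.card (Subgroup.center ↥S) := hCL
      _ = Nat.card ↥S * Nat.card ↥((Subgroup.center ↥S).map S.subtype) := by rw [hcZ]
  · rw [Subgroup.commutator_le]
    intro a ha b hb
    rw [Subgroup.mem_centralizer_iff]
    intro w hw
    have hc := h1 ⟨a, ha⟩ ⟨b, hb⟩
    have h := Subgroup.mem_center_iff.1 hc ⟨w, hWS hw⟩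
    rw [commutatorElement_def]
    exact congrArg Subtype.val h
  · intro a ha
    rw [Subgroup.mem_centralizer_iff]
    intro w hw
    have hc := h2 ⟨a, ha⟩
    have h := Subgroup.mem_center_iff.1 hc ⟨w, hWS hw⟩
    exact congrArg Subtype.val h

end Cfsg.Agent.Lib.Helper15.SchB1
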