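import Mathlib
import Cfsg.Agent.Lib.Helper26.T64Stmt

/-!
# S3157 / COMMID: `[s, ρ t] = ρ² [s, t]`
-/

set_option autoImplicit false

namespace Cfsg.Agent.Lib.Helper15.T64COMMID

open Cfsg.Agent.Lib.Helper26.T64Stmt

universe u

theorem main : COMMID.{u} := by
  intro T _ _ ρ hρ hF _ hS s t
  have h3 : ∀ y : T, ρ (ρ (ρ y)) = y := by
    intro y
    have h := pow_orderOf_eq_one ρ
    rw [hρ] at h
    have h' := DFunLike.congr_fun h y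
    simpa [pow_succ, MulAut.mul_apply] using h'
  have cc : ∀ a b : T, a * b * a⁻¹ * b⁻¹ ∈ Subgroup.center T := by
    intro a b
    have ha : a⁻¹ * a⁻¹ ∈ Subgroup.center T := hS a⁻¹
    have hb : b⁻¹ * b⁻¹ ∈ Subgroup.center T := hS b⁻¹
    have hab : (a * b) * (a * b) ∈ Subgroup.center T := hS (a * b)
    have e : a * b * a⁻¹ * b⁻¹ = (a * b) * (a * b) * (a⁻¹ * a⁻¹) * (b⁻¹ * b⁻¹) := by
      have h1 := (Subgroup.mem_center_iff.1 ha) b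
      calc a * b * a⁻¹ * b⁻¹ = a * b * a * ((a⁻¹ * a⁻¹) * b) * (b⁻¹ * b⁻¹) := by group
        _ = a * b * a * (b * (a⁻¹ * a⁻¹)) * (b⁻¹ * b⁻¹) := by rw [h1]
        _ = _ := by simp only [mul_assoc]
    rw [e]
    exact Subgroup.mul_mem _ (Subgroup.mul_mem _ hab ha) hb
  have cR : ∀ a b1 b2 : T, a * (b1 * b2) * a⁻¹ * (b1 * b2)⁻¹ =
      (a * b1 * a⁻¹ * b1⁻¹) * (a * b2 * a⁻¹ * b2⁻¹) := by
    intro a b1 b2
    have h1 := (Subgroup.mem_center_iff.1 (cc a b2)) b1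
    calc a * (b1 * b2) * a⁻¹ * (b1 * b2)⁻¹
        = (a * b1 * a⁻¹ * b1⁻¹) * (b1 * (a * b2 * a⁻¹ * b2⁻¹)) * b1⁻¹ := by group
      _ = (a * b1 * a⁻¹ * b1⁻¹) * ((a * b2 * a⁻¹ * b2⁻¹) * b1) * b1⁻¹ := by rw [h1]
      _ = _ := by group
  have cL : ∀ a1 a2 b : T, (a1 * a2) * b * (a1 * a2)⁻¹ * b⁻¹ =
      (a2 * b * a2⁻¹ * b⁻¹) * (a1 * b * a1⁻¹ * b⁻¹) := by
    intro a1 a2 b
    have h1 := (Subgroup.mem_center_iff.1 (cc a2 b)) a1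
    calc (a1 * a2) * b * (a1 * a2)⁻¹ * b⁻¹
        = (a1 * (a2 * b * a2⁻¹ * b⁻¹)) * (b * a1⁻¹ * b⁻¹) := by group
      _ = ((a2 * b * a2⁻¹ * b⁻¹) * a1) * (b * a1⁻¹ * b⁻¹) := by rw [h1]
      _ = _ := by group
  have c1 : ∀ y : T, y * ρ y * y⁻¹ * (ρ y)⁻¹ = 1 := by
    intro y
    rw [(hF y).2]; group
  have key : ∀ a b : T, a * ρ b * a⁻¹ * (ρ b)⁻¹ = ρ a * b * (ρ a)⁻¹ * b⁻¹ := by
    intro a b
    have h := c1 (a * b)
    rw [map_mul, cL, cR, cR] at h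
    simp only [c1, mul_one, one_mul] at h
    have h' := eq_inv_of_mul_eq_one_right h
    rw [h']; group
  simp only [map_mul, map_inv]
  rw [key (ρ (ρ s)) (ρ t), h3]

end Cfsg.Agent.Lib.Helper15.T64COMMID
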