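import Mathlib
import Cfsg.Agent.Lib.Helper26.T64Stmt

/-!
# S3157 / CXCARD: `C_T(x)` has order 8
-/

set_option autoImplicit false

namespace Cfsg.Agent.Lib.Helper15.T64CXCARD

open Cfsg.Agent.Lib.Helper26.T64Stmt

universe u

theorem main : CXCARD.{u} := by
  intro T _ _ ρ x hT hρ _ hxr hfp hXF C hC
  have hxρ : ∀ y : T, x (ρ y) = ρ⁻¹ (x y) := by
    intro y
    have h : x * ρ = ρ⁻¹ * x := by
      rw [← hxr]; group
    have := DFunLike.congr_fun h y
    simpa [MulAut.mul_apply] using this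
  have h3 : ∀ y : T, ρ (ρ (ρ y)) = y := by
    intro y
    have h := pow_orderOf_eq_one ρ
    rw [hρ] at h
    have h' := DFunLike.congr_fun h y
    simpa [pow_succ, MulAut.mul_apply] using h'
  obtain ⟨f, hf⟩ : ∃ f : C × C → T, f = fun p => (p.1 : T) * ρ (p.2 : T) := ⟨_, rfl⟩
  have hsurj : Function.Surjective f := by
    intro t
    obtain ⟨c, c', hc, hc', rfl⟩ := hXF t
    refine ⟨(⟨c, (hC c).2 hc⟩, ⟨c', (hC c').2 hc'⟩), ?_⟩
    rw [hf]
  have hinj : Function.Injective f := by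
    rintro ⟨⟨c, hc⟩, ⟨c', hc'⟩⟩ ⟨⟨d, hd⟩, ⟨d', hd'⟩⟩ h
    rw [hf] at h
    simp only at h
    have e1 : d⁻¹ * c = ρ (d' * c'⁻¹) := by
      rw [map_mul, map_inv]
      have hc2 : c = d * ρ d' * (ρ c')⁻¹ := by rw [← h]; group
      rw [hc2]; group
    have hu : x (d' * c'⁻¹) = d' * c'⁻¹ := by
      rw [map_mul, map_inv, (hC d').1 hd', (hC c').1 hc']
    have hρu : x (ρ (d' * c'⁻¹)) = ρ (d' * c'⁻¹) := by
      rw [← e1, map_mul, map_inv, (hC d).1 hd, (hC c).1 hc]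
    have h1 : ρ⁻¹ (d' * c'⁻¹) = ρ (d' * c'⁻¹) := by
      rw [← hρu, hxρ, hu]
    have h2 : d' * c'⁻¹ = ρ (ρ (d' * c'⁻¹)) := by
      rw [← h1]; simp
    have h4 : ρ (d' * c'⁻¹) = d' * c'⁻¹ := by
      have := congrArg ρ h2
      rw [h3] at this
      exact this
    have hu1 : d' * c'⁻¹ = 1 := hfp _ h4
    have hdc : d' = c' := by rwa [mul_inv_eq_one] at hu1
    subst hdc
    have hcd : c = d := mul_right_cancel h
    subst hcd
    rfl
  have hcard : Nat.card (C × C) = Nat.card T :=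
    Nat.card_congr (Equiv.ofBijective f ⟨hinj, hsurj⟩)
  rw [Nat.card_prod, hT] at hcard
  exact Nat.mul_self_inj.1 (hcard.trans (by norm_num))

end Cfsg.Agent.Lib.Helper15.T64CXCARD
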