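import Mathlib
import Cfsg.Agent.Lib.Helper39.TLStmt

/-! S4404 piece CASE1: `A ∩ C(W)` is not cyclic (from NormA). -/

set_option autoImplicit false
universe u

namespace Cfsg.Agent.Lib.Helper15.TLCASE1

open Cfsg Cfsg.Agent.Lib.Helper39.TLStmt

theorem main (hN : NormA.{u}) : Case1.{u} := by
  intro S _ _ M _ hM T A hT hAT hnorm hA hA27 x W hxT hR hcyc
  have hAcomm : ∀ a ∈ A, ∀ b ∈ A, a * b = b * a := by
    intro a ha b hb
    have hc : IsMulCommutative ↥A := hA.1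
    have h := mul_comm' (⟨a, ha⟩ : ↥A) ⟨b, hb⟩
    exact congrArg Subtype.val h
  have hW := hN S M hM T A hT hAT hnorm hAcomm x W hxT hR
  have hconj : ∀ a ∈ A, ∀ w ∈ W, a * w * a⁻¹ ∈ W := by
    intro a ha w hw
    have h : a * w * a⁻¹ ∈ W.map (MulAut.conj a).toMonoidHom := ⟨w, hw, rfl⟩
    rwa [hW a ha] at h
  let act : MulAction ↥A ↥W :=
    { smul := fun a w => ⟨a.1 * w.1 * a.1⁻¹, hconj a.1 a.2 w.1 w.2⟩
      one_smul := fun w => Subtype.ext (by
        show (1 : S) * w.1 * (1 : S)⁻¹ = w.1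
        simp)
      mul_smul := fun a b w => Subtype.ext (by
        show (a.1 * b.1) * w.1 * (a.1 * b.1)⁻¹ = a.1 * (b.1 * w.1 * b.1⁻¹) * a.1⁻¹
        simp [mul_assoc]) }
  have hsmul : ∀ (a : ↥A) (w : ↥W), ((a • w : ↥W) : S) = a.1 * w.1 * a.1⁻¹ := fun a w => rfl
  obtain ⟨φ, hφ⟩ : ∃ φ : ↥A →* Equiv.Perm ↥W, ∀ (a : ↥A) (w : ↥W), φ a w = a • w :=
    ⟨MulAction.toPermHom ↥A ↥W, fun a w => rfl⟩
  have h1 : Nat.card φ.range ∣ 27 := hA27 ▸ Subgroup.card_range_dvd φ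
  have h2 : Nat.card φ.range ∣ 24 := by
    have h := Subgroup.card_subgroup_dvd_card φ.range
    rw [Nat.card_perm, hR.card] at h
    exact h
  have h3 : Nat.card φ.range ∣ 3 := Nat.dvd_gcd h1 h2
  have h4 : Nat.card φ.range ≤ 3 := Nat.le_of_dvd (by norm_num) h3
  have h5 : Nat.card φ.ker * Nat.card φ.range = 27 := by
    rw [← Subgroup.index_ker, Subgroup.card_mul_index, hA27]
  have hker : ∀ a : φ.ker, a.1.1 ∈ A ⊓ Subgroup.centralizer (W : Set S) := by
    intro a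
    refine ⟨a.1.2, ?_⟩
    show a.1.1 ∈ Subgroup.centralizer (W : Set S)
    rw [Subgroup.mem_centralizer_iff]
    intro w hw
    have h := MonoidHom.mem_ker.mp a.2
    have h' : φ a.1 ⟨w, hw⟩ = ⟨w, hw⟩ := by rw [h]; rfl
    rw [hφ] at h'
    have h'' : a.1.1 * w * a.1.1⁻¹ = w := congrArg Subtype.val h'
    calc w * a.1.1 = (a.1.1 * w * a.1.1⁻¹) * a.1.1 := by rw [h'']
      _ = a.1.1 * w := by group
  have h6 : Nat.card φ.ker ≤ Nat.card ↥(A ⊓ Subgroup.centralizer (W : Set S)) := by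
    apply Nat.card_le_card_of_injective
      (fun a : φ.ker => (⟨a.1.1, hker a⟩ : ↥(A ⊓ Subgroup.centralizer (W : Set S))))
    intro a b h
    have h' : a.1.1 = b.1.1 := by
      have := congrArg (fun z : ↥(A ⊓ Subgroup.centralizer (W : Set S)) => (z : S)) h
      exact this
    exact Subtype.ext (Subtype.ext h')
  have h7 : Nat.card ↥(A ⊓ Subgroup.centralizer (W : Set S)) ≤ 3 := by
    obtain ⟨g, hg⟩ := hcyc.exists_generator
    rw [← orderOf_eq_card_of_forall_mem_zpowers hg]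
    have hg3 : g ^ 3 = 1 := Subtype.ext (hA.2 g.1 g.2.1)
    exact orderOf_le_of_pow_eq_one (by norm_num) hg3
  have h8 : Nat.card φ.ker ≤ 3 := h6.trans h7
  nlinarith

end Cfsg.Agent.Lib.Helper15.TLCASE1
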