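import Mathlib
import Cfsg.Agent.Lib.Helper41.TMTwoStmt
import Cfsg.Agent.Lib.Helper44.NegPairs
import Cfsg.Agent.Lib.Helper15.TM2TSEXT

/-!
# S5987 / TM2TSBIG (sub-call by helper41)

Every subspace `A` contains a totally singular subspace `U` (minus form, `q` odd) with
`finrank A ≤ 2 finrank U + 2`: grow `U` by a singular vector of `U^⊥ ⊓ A ⊓ C'` (`C'` a
complement of `U`) as long as `finrank A > 2 finrank U + 2` (Chevalley-Warning).
-/

set_option autoImplicit false
set_option maxHeartbeats 400000

universe u

open scoped Matrix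

namespace Cfsg.Agent.Lib.Helper15.TM2TSBIG

open Cfsg.Agent.Lib.Helper41.TMTwoStmt
open Cfsg.Agent.Lib.Helper45.OMiStmt (M Aniso FxM NDegM StabM TopNDM)
open Cfsg.Agent.Lib.Helper15.TM2TSEXT (two_ne_zero' exists_sing)

theorem main : TsBig.{u} := by
  intro F _ _ hodd d a b A
  classical
  have h2 : (2 : F) ≠ 0 := two_ne_zero' F hodd
  obtain ⟨Q, hQ⟩ : ∃ Q : QuadraticForm F (M d → F), ⇑Q = Cfsg.quadFormMinus (d - 1) F a b :=
    ⟨Cfsg.Agent.Lib.Helper44.NegPairs.minusQ (d - 1) F a b, rfl⟩
  obtain ⟨B, hB⟩ : ∃ B : LinearMap.BilinForm F (M d → F), B = Q.polarBilin := ⟨_, rfl⟩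
  have hBapp : ∀ x y, B x y = QuadraticMap.polar Q x y := by
    intro x y
    rw [hB]
    rfl
  have hrefl : B.IsRefl := by
    intro x y h
    rw [hBapp] at h ⊢
    rw [QuadraticMap.polar_comm]
    exact h
  have key : ∀ k : ℕ, ∀ U : Submodule F (M d → F), U ≤ A → (∀ w ∈ U, Q w = 0) →
      Module.finrank F ↥A - Module.finrank F ↥U ≤ k →
      ∃ U' : Submodule F (M d → F), U' ≤ A ∧ (∀ w ∈ U', Q w = 0) ∧
        Module.finrank F ↥A ≤ 2 * Module.finrank F ↥U' + 2 := by
    intro k
    induction k with
    | zero =>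
      intro U hUA hU hk
      exact ⟨U, hUA, hU, by omega⟩
    | succ k ih =>
      intro U hUA hU hk
      by_cases hdone : Module.finrank F ↥A ≤ 2 * Module.finrank F ↥U + 2
      · exact ⟨U, hUA, hU, hdone⟩
      · have h1 := LinearMap.BilinForm.finrank_add_finrank_orthogonal hrefl U
        obtain ⟨C', hC'⟩ := Submodule.exists_isCompl U
        have h3 := Submodule.finrank_add_eq_of_isCompl hC'
        have h4 := Submodule.finrank_sup_add_finrank_inf_eq (B.orthogonal U) A
        have h5 : Module.finrank F ↥(B.orthogonal U ⊔ A) ≤ Module.finrank F (M d → F) :=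
          Submodule.finrank_le _
        have h4' := Submodule.finrank_sup_add_finrank_inf_eq (B.orthogonal U ⊓ A) C'
        have h5' : Module.finrank F ↥((B.orthogonal U ⊓ A) ⊔ C') ≤
            Module.finrank F (M d → F) := Submodule.finrank_le _
        have h6 : 3 ≤ Module.finrank F ↥((B.orthogonal U ⊓ A) ⊓ C') := by omega
        obtain ⟨w, hwC, hw0, hQw⟩ := exists_sing h2 Q _ h6
        have hwU : w ∉ U := by
          intro hwU
          have h7 : w ∈ U ⊓ C' := ⟨hwU, hwC.2⟩
          rw [hC'.inf_eq_bot] at h7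
          exact hw0 ((Submodule.mem_bot F).mp h7)
        have hts : ∀ v ∈ U ⊔ Submodule.span F {w}, Q v = 0 := by
          intro v hv
          obtain ⟨u, hu, y, hy, rfl⟩ := Submodule.mem_sup.mp hv
          obtain ⟨c, rfl⟩ := Submodule.mem_span_singleton.mp hy
          have h8 := (LinearMap.BilinForm.mem_orthogonal_iff.mp hwC.1.1) u hu
          rw [hBapp] at h8
          have h9 : Q (u + c • w) = Q u + Q (c • w) + QuadraticMap.polar Q u (c • w) := by
            unfold QuadraticMap.polar
            ring
          rw [h9, hU u hu, QuadraticMap.map_smul, hQw, QuadraticMap.polar_smul_right, h8]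
          simp
        have hlt : U < U ⊔ Submodule.span F {w} := by
          apply lt_of_le_of_ne le_sup_left
          intro heq
          apply hwU
          rw [heq]
          exact Submodule.mem_sup_right (Submodule.mem_span_singleton_self w)
        have hfl := Submodule.finrank_lt_finrank_of_lt hlt
        have hle : U ⊔ Submodule.span F {w} ≤ A :=
          sup_le hUA (by rw [Submodule.span_singleton_le_iff_mem]; exact hwC.1.2)
        have hle2 : Module.finrank F ↥(U ⊔ Submodule.span F {w}) ≤ Module.finrank F ↥A :=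
          Submodule.finrank_mono hle
        exact ih _ hle hts (by omega)
  obtain ⟨U', hU'A, hU', hfin⟩ := key (Module.finrank F ↥A) ⊥ bot_le
    (by intro w hw; rw [Submodule.mem_bot] at hw; rw [hw, map_zero]) (by omega)
  exact ⟨U', hU'A, fun w hw => by rw [← hQ]; exact hU' w hw, hfin⟩

end Cfsg.Agent.Lib.Helper15.TM2TSBIG
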