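import Mathlib
import Cfsg.Agent.Lib.Helper44.TPStmt
import Cfsg.Agent.Lib.Helper15.TPBADA

/-! S5973 piece BADC: the element of MultElt fixes no totally singular `m`-space when
`2 d - i u < 2 m`. -/

set_option autoImplicit false
universe u

namespace Cfsg.Agent.Lib.Helper15.TPBADC

open Cfsg.Agent.Lib.Helper44.TPStmt
open Cfsg.Agent.Lib.Helper37.HypStmt (cc IPos)
open Cfsg.Agent.Lib.Helper44.TSStmt (Fac NumTypes)
open scoped Matrix

theorem main (hME : MultElt.{u}) (hFix : FixND.{u}) (hTs : TsHalf.{u}) (hR : RImg.{u}) :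
    BadC.{u} := by
  intro F _ _ p _ _ d m hd r _ hr2 hrp heven u hu hut hlt hcond
  obtain ⟨x, hxO, hxr, hxF, hxR⟩ := hME F p d hd r hr2 hrp heven u hu hut hlt
  refine ⟨x, hxO, hxr, ?_⟩
  rintro ⟨W, hWm, hWts, hWst⟩
  have hxI := Cfsg.Agent.Lib.Helper15.TPBADA.mem_iso_of_mem_omega x hxO
  obtain ⟨R, hRW, hRst, hRF, hRdim, -⟩ := hR F p d r hrp x hxr W hWst
  have hR0 : R = ⊥ := hxR R hRst hRF (fun w hw => hWts w (hRW hw))
  have hRfin : Module.finrank F ↥R = 0 := by rw [hR0]; exact finrank_bot F (J d → F)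
  have hND := hFix F p d r hrp x hxI hxr
  have hhalf := hTs F d (Fx (x : Matrix (J d) (J d) F))
    (W ⊓ Fx (x : Matrix (J d) (J d) F)) hND inf_le_right (fun w hw => hWts w hw.1)
  rw [hxF] at hhalf
  rw [hWm, hRfin] at hRdim
  omega

end Cfsg.Agent.Lib.Helper15.TPBADC
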