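import Mathlib
import Cfsg.Agent.Lib.Lead.TuanStmt

set_option autoImplicit false
set_option linter.style.haveILetI false

/-! Piece CountP of S0997 part T: sums of class functions over the elements of order `p`
(adapted from `Helper62.BrCOrdP` / `Helper62.BrCCountP`).  Also basic facts on the Sylow
`p`-subgroups (of order `p`) in the setting `TCtx`. -/

namespace Cfsg.Agent.Lib.Helper15.TSCountP

open Cfsg Cfsg.Agent.Lib.Lead.Tuan
open scoped Classical

universe u

variable {G : Type u} [Group G] [Fintype G] {p : ℕ} [Fact p.Prime]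

theorem e_ge (c : TCtx G p) : 4 ≤ c.e := by
  rw [c.he]
  calc 4 = 2 ^ 2 := rfl
    _ ≤ 2 ^ c.j := Nat.pow_le_pow_right (by norm_num) c.hj

theorem fact_p (c : TCtx G p) : (Nat.card G).factorization p = 1 := by
  have hp : p.Prime := Fact.out
  have he4 := e_ge c
  have hpe := c.hp
  rw [c.hcard]
  have h2b : (2 ^ c.b) ≠ 0 := by positivity
  have hp0 : p ≠ 0 := hp.ne_zero
  have he1 : c.e + 1 ≠ 0 := by omega
  rw [Nat.factorization_mul (mul_ne_zero h2b hp0) he1, Nat.factorization_mul h2b hp0]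
  simp only [Finsupp.coe_add, Pi.add_apply]
  have h1 : (2 ^ c.b).factorization p = 0 := by
    apply Nat.factorization_eq_zero_of_not_dvd
    intro h
    have h3 := hp.dvd_of_dvd_pow h
    have h4 := Nat.le_of_dvd (by norm_num) h3
    omega
  have h2 : (c.e + 1).factorization p = 0 := Nat.factorization_eq_zero_of_lt (by omega)
  rw [h1, h2, Nat.Prime.factorization_self hp]

/-- every Sylow `p`-subgroup has order `p`. -/
theorem card_sylow (c : TCtx G p) (Q : Sylow p G) : Nat.card (Q : Subgroup G) = p := by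
  rw [Sylow.card_eq_multiplicity, fact_p c, pow_one]

/-- an element of order `p` generates a Sylow `p`-subgroup. -/
theorem exists_sylow_eq (c : TCtx G p) (u : G) (hu : orderOf u = p) :
    ∃ Q : Sylow p G, (Q : Subgroup G) = Subgroup.zpowers u := by
  have hpg : IsPGroup p (Subgroup.zpowers u) := by
    apply IsPGroup.of_card (n := 1)
    rw [Nat.card_zpowers, hu, pow_one]
  obtain ⟨Q, hQ⟩ := hpg.exists_le_sylow
  refine ⟨Q, ?_⟩
  symm
  apply Subgroup.eq_of_le_of_card_ge hQ
  rw [Nat.card_zpowers, hu, card_sylow c Q]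

/-- a nontrivial element of a Sylow `p`-subgroup has order `p`. -/
theorem orderOf_of_mem (c : TCtx G p) (Q : Sylow p G) (u : G) (hu : u ∈ (Q : Subgroup G))
    (hu1 : u ≠ 1) : orderOf u = p := by
  have hp : p.Prime := Fact.out
  have h1 : orderOf u ∣ p := by
    have h := Subgroup.orderOf_dvd_natCard (Q : Subgroup G) hu
    rw [card_sylow c Q] at h
    exact h
  rcases (Nat.dvd_prime hp).mp h1 with h | h
  · exact absurd (orderOf_eq_one_iff.mp h) hu1
  · exact h

/-- a Sylow `p`-subgroup containing an element `u` of order `p` is `⟨u⟩`. -/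
theorem sylow_eq_zpowers (c : TCtx G p) (Q : Sylow p G) (u : G) (hu : u ∈ (Q : Subgroup G))
    (ho : orderOf u = p) : (Q : Subgroup G) = Subgroup.zpowers u := by
  symm
  apply Subgroup.eq_of_le_of_card_ge
  · rw [Subgroup.zpowers_le]; exact hu
  · rw [Nat.card_zpowers, ho, card_sylow c Q]

/-- every Sylow `p`-subgroup is a conjugate of `⟨x⟩`: its elements are `g x^a g⁻¹`. -/
theorem exists_conj (c : TCtx G p) (Q : Sylow p G) :
    ∃ g : G, ∀ u : G, u ∈ (Q : Subgroup G) ↔ ∃ a : ℕ, a < p ∧ u = g * c.x ^ a * g⁻¹ := by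
  classical
  obtain ⟨P, hP⟩ := exists_sylow_eq c c.x c.hx
  obtain ⟨g, hg⟩ := MulAction.exists_smul_eq G P Q
  refine ⟨g, fun u => ?_⟩
  rw [← hg, Sylow.coe_subgroup_smul, Subgroup.mem_pointwise_smul_iff_inv_smul_mem, hP]
  constructor
  · intro h
    have h3 : (MulAut.conj g)⁻¹ • u = g⁻¹ * u * g := by
      simp [MulAut.smul_def]
    rw [h3] at h
    have h2 : g⁻¹ * u * g ∈ Submonoid.powers c.x := mem_powers_iff_mem_zpowers.mpr h
    rw [mem_powers_iff_mem_range_orderOf, c.hx] at h2
    rw [Finset.mem_image] at h2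
    obtain ⟨a, ha, hau⟩ := h2
    refine ⟨a, Finset.mem_range.mp ha, ?_⟩
    rw [hau]; group
  · rintro ⟨a, -, rfl⟩
    have h3 : ∀ y : G, (MulAut.conj g)⁻¹ • y = g⁻¹ * y * g := by
      intro y
      simp [MulAut.smul_def]
    rw [h3]
    have h4 : g⁻¹ * (g * c.x ^ a * g⁻¹) * g = c.x ^ a := by group
    rw [h4]
    exact Subgroup.npow_mem_zpowers c.x a

/-- elements of order `p` are conjugate to powers of `x` (the piece `OrdP`). -/
theorem ordP (c : TCtx G p) (u : G) (hu : orderOf u = p) :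
    ∃ h : G, ∃ a : ℕ, ¬ p ∣ a ∧ u = h * c.x ^ a * h⁻¹ := by
  have hp : p.Prime := Fact.out
  obtain ⟨Q, hQ⟩ := exists_sylow_eq c u hu
  obtain ⟨g, hg⟩ := exists_conj c Q
  have huQ : u ∈ (Q : Subgroup G) := by rw [hQ]; exact Subgroup.mem_zpowers u
  obtain ⟨a, -, hau⟩ := (hg u).mp huQ
  refine ⟨g, a, ?_, hau⟩
  intro hpa
  have h1 : c.x ^ a = 1 := by
    rw [← c.hx] at hpa
    exact orderOf_dvd_iff_pow_eq_one.mp hpa
  rw [h1] at hau
  have h2 : u = 1 := by rw [hau]; group
  rw [h2, orderOf_one] at hu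
  exact hp.one_lt.ne hu

theorem main : CountP.{u} := by
  intro L _ _ p _ c F hF
  have hp : p.Prime := Fact.out
  haveI : Fintype (Sylow p L) := Fintype.ofFinite _
  -- step 1: per-Sylow sum
  have hQ : ∀ Q : Sylow p L, (∑ u : L, if u ∈ (Q : Subgroup L) ∧ u ≠ 1 then F u else 0) =
      ∑ a ∈ Finset.Ico 1 p, F (c.x ^ a) := by
    intro Q
    obtain ⟨g, hg⟩ := exists_conj c Q
    rw [← Finset.sum_filter]
    have himg : Finset.univ.filter (fun u : L => u ∈ (Q : Subgroup L) ∧ u ≠ 1) =
        (Finset.Ico 1 p).image (fun a => g * c.x ^ a * g⁻¹) := by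
      ext u
      simp only [Finset.mem_filter, Finset.mem_univ, true_and, Finset.mem_image, Finset.mem_Ico]
      constructor
      · rintro ⟨hu, hu1⟩
        obtain ⟨a, ha, rfl⟩ := (hg u).mp hu
        refine ⟨a, ⟨?_, ha⟩, rfl⟩
        rcases Nat.eq_zero_or_pos a with h0 | h0
        · exfalso; apply hu1; rw [h0, pow_zero]; group
        · exact h0
      · rintro ⟨a, ⟨ha1, ha⟩, rfl⟩
        refine ⟨(hg _).mpr ⟨a, ha, rfl⟩, ?_⟩
        intro h1
        have h2 : c.x ^ a = 1 := by
          have h3 : c.x ^ a = g⁻¹ * (g * c.x ^ a * g⁻¹) * g := by group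
          rw [h3, h1]; group
        have h3 := orderOf_dvd_of_pow_eq_one h2
        rw [c.hx] at h3
        exact absurd (Nat.le_of_dvd ha1 h3) (not_le.mpr ha)
    rw [himg, Finset.sum_image]
    · apply Finset.sum_congr rfl
      intro a _
      exact hF _ _
    · intro a ha b hb hab
      rw [Finset.mem_coe, Finset.mem_Ico] at ha hb
      have h2 : c.x ^ a = c.x ^ b := by
        have h3 : ∀ n : ℕ, c.x ^ n = g⁻¹ * (g * c.x ^ n * g⁻¹) * g := by intro n; group
        rw [h3 a, h3 b]
        exact congrArg (fun y => g⁻¹ * y * g) hab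
      exact pow_injOn_Iio_orderOf (x := c.x) (by rw [c.hx]; exact ha.2)
        (by rw [c.hx]; exact hb.2) h2
  -- step 2: double count
  have h2 : ∑ Q : Sylow p L, (∑ u : L, if u ∈ (Q : Subgroup L) ∧ u ≠ 1 then F u else 0) =
      ∑ u : L, if orderOf u = p then F u else 0 := by
    rw [Finset.sum_comm]
    apply Finset.sum_congr rfl
    intro u _
    by_cases hu : orderOf u = p
    · rw [if_pos hu]
      obtain ⟨Q₀, hQ₀⟩ := exists_sylow_eq c u hu
      rw [Finset.sum_eq_single Q₀]
      · rw [if_pos]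
        refine ⟨by rw [hQ₀]; exact Subgroup.mem_zpowers u, ?_⟩
        rintro rfl
        rw [orderOf_one] at hu
        exact hp.one_lt.ne hu
      · intro Q _ hQne
        rw [if_neg]
        rintro ⟨huQ, -⟩
        apply hQne
        apply Sylow.ext
        rw [hQ₀, sylow_eq_zpowers c Q u huQ hu]
      · intro h; exact absurd (Finset.mem_univ _) h
    · rw [if_neg hu]
      apply Finset.sum_eq_zero
      intro Q _
      rw [if_neg]
      rintro ⟨huQ, hu1⟩
      exact hu (orderOf_of_mem c Q u huQ hu1)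
  rw [← h2, Finset.sum_congr rfl (fun Q _ => hQ Q), Finset.sum_const, Finset.card_univ,
    nsmul_eq_mul]
  congr 1
  show ((Fintype.card (Sylow p L) : ℕ) : ℂ) = ((Nat.card (Sylow p L) : ℕ) : ℂ)
  rw [Nat.card_eq_fintype_card]

end Cfsg.Agent.Lib.Helper15.TSCountP
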