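import Mathlib
import Cfsg.Agent.Lib.Lead.TuanStmt
import Cfsg.Agent.Lib.Helper78.BrCPerZero
import Cfsg.Agent.Lib.Helper15.TSCountP

set_option autoImplicit false

/-! Piece Triv of S0997 part T: the trivial character lies in `X`, with sign `+1`.
Also: arithmetic of `p`, `e` in `TCtx` and the degrees of `θ₁`, `θ₂`. -/

namespace Cfsg.Agent.Lib.Helper15.TSTriv

open Cfsg Cfsg.Agent.Lib.Lead.Tuan Cfsg.Agent.Lib.Lead.BrHalf
open scoped ComplexConjugate Classical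

universe u

variable {G : Type u} [Group G] [Fintype G] {p : ℕ} [Fact p.Prime]

theorem p_facts (c : TCtx G p) : p ≠ 2 ∧ 9 ≤ p ∧ (p - 1) / 2 = c.e ∧ p % 4 = 1 := by
  have he4 := Cfsg.Agent.Lib.Helper15.TSCountP.e_ge c
  have hpe := c.hp
  have h4 : 4 ∣ c.e := by
    rw [c.he]
    calc 4 = 2 ^ 2 := rfl
      _ ∣ 2 ^ c.j := pow_dvd_pow 2 c.hj
  refine ⟨by omega, by omega, by omega, by omega⟩

theorem not_dvd_one (c : TCtx G p) : ¬ p ∣ 1 := by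
  intro h
  have h1 := Nat.le_of_dvd one_pos h
  have h2 := (p_facts c).2.1
  omega

theorem deg1 (c : TCtx G p) : (c.θ₁ : G → ℂ) 1 = (c.e : ℂ) + 1 := by
  have h := c.hθ₁ 0
  rw [pow_zero] at h
  rw [h, Cfsg.Agent.Lib.Helper78.BrCPerZero.main p (p_facts c).1 c.ζ c.hζ 0 (dvd_zero p),
    (p_facts c).2.2.1]
  ring

theorem deg2 (c : TCtx G p) : (c.θ₂ : G → ℂ) 1 = (c.e : ℂ) + 1 := by
  have h := c.hθ₂ 0
  rw [pow_zero, zero_mul] at h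
  rw [h, Cfsg.Agent.Lib.Helper78.BrCPerZero.main p (p_facts c).1 c.ζ c.hζ 0 (dvd_zero p),
    (p_facts c).2.2.1]
  ring

/-- a character of degree `e + 1 ≠ 1` is not the trivial one -/
theorem ne_of_deg (c : TCtx G p) (χ₀ : IrrCharacter G) (hχ₀ : (χ₀ : G → ℂ) = (fun _ => 1))
    (θ : IrrCharacter G) (hθ : (θ : G → ℂ) 1 = (c.e : ℂ) + 1) : χ₀ ≠ θ := by
  intro h
  rw [← h, hχ₀] at hθ
  have h2 : (1 : ℂ) = (c.e : ℂ) + 1 := hθ
  have h3 : (c.e : ℂ) = 0 := by linear_combination -h2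
  have h4 : c.e = 0 := by exact_mod_cast h3
  have h5 := Cfsg.Agent.Lib.Helper15.TSCountP.e_ge c
  omega

theorem main (hColX : ColX.{u}) : Triv.{u} := by
  intro G _ _ p _ c χ₀ hχ₀
  have h1 : ¬ p ∣ 1 := not_dvd_one c
  have hne1 : χ₀ ≠ c.θ₁ := ne_of_deg c χ₀ hχ₀ c.θ₁ (deg1 c)
  have hne2 : χ₀ ≠ c.θ₂ := ne_of_deg c χ₀ hχ₀ c.θ₂ (deg2 c)
  have hmem : χ₀ ∈ c.X := by
    by_contra hX
    have h0 := hColX p c χ₀ hX hne1 hne2 1 h1
    rw [hχ₀] at h0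
    exact one_ne_zero h0
  refine ⟨hmem, ?_⟩
  have hv := c.hXval χ₀ hmem 1 h1
  rw [hχ₀] at hv
  have hv' : (1 : ℂ) = (c.εX χ₀ : ℂ) := hv
  exact_mod_cast hv'.symm

end Cfsg.Agent.Lib.Helper15.TSTriv
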