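import Mathlib
import Cfsg.Agent.Lib.Lead.TuanStmt
import Cfsg.Agent.Lib.CT.Ops
import Cfsg.Agent.Lib.CT.Wedderburn
import Cfsg.Agent.Lib.Helper15.TSTriv

set_option autoImplicit false

/-! Piece Real of S0997 part T: `θ₁`, `θ₂` are real-valued. -/

namespace Cfsg.Agent.Lib.Helper15.TSReal

open Cfsg Cfsg.Agent.Lib.Lead.Tuan Cfsg.Agent.Lib.Lead.BrHalf
open scoped ComplexConjugate Classical

universe u

/-- the complex conjugate of an irreducible character is irreducible -/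
theorem isIrr_conj {H : Type u} [Group H] [Finite H] {χ : H → ℂ} (hχ : IsIrrCharacter H χ) :
    IsIrrCharacter H (fun g => conj (χ g)) := by
  have h := Cfsg.Agent.Lib.CT.Ops.isIrrCharacter_inv_arg hχ
  have e : (fun g => conj (χ g)) = fun g => χ g⁻¹ := by
    funext g
    rw [Cfsg.Agent.Lib.CT.Wedderburn.char_apply_inv
      (Cfsg.Agent.Lib.CT.Wedderburn.isCharacter_of_irr hχ)]
  rw [e]
  exact h

theorem main (hUniq : Uniq.{u}) (hPR : PerReal) : Cfsg.Agent.Lib.Lead.Tuan.Real.{u} := by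
  intro G _ _ p _ c g
  have hpf := Cfsg.Agent.Lib.Helper15.TSTriv.p_facts c
  obtain ⟨-, -, -, hU⟩ := hUniq p c
  have hirr1 : IsIrrCharacter G (fun g => conj ((c.θ₁ : G → ℂ) g)) := isIrr_conj c.θ₁.2
  have hirr2 : IsIrrCharacter G (fun g => conj ((c.θ₂ : G → ℂ) g)) := isIrr_conj c.θ₂.2
  have e1 : (⟨_, hirr1⟩ : IrrCharacter G) = c.θ₁ := by
    apply (hU ⟨_, hirr1⟩).1
    show conj ((c.θ₁ : G → ℂ) c.x) = (c.θ₁ : G → ℂ) c.x
    have h := c.hθ₁ 1
    rw [pow_one] at h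
    rw [h, map_add, map_one, hPR p hpf.2.2.2 c.ζ c.hζ 1]
  have e2 : (⟨_, hirr2⟩ : IrrCharacter G) = c.θ₂ := by
    apply (hU ⟨_, hirr2⟩).2
    show conj ((c.θ₂ : G → ℂ) c.x) = (c.θ₂ : G → ℂ) c.x
    have h := c.hθ₂ 1
    rw [pow_one] at h
    rw [h, map_add, map_one, hPR p hpf.2.2.2 c.ζ c.hζ (1 * c.ν)]
  constructor
  · exact congrArg (fun χ : IrrCharacter G => (χ : G → ℂ) g) e1
  · exact congrArg (fun χ : IrrCharacter G => (χ : G → ℂ) g) e2

end Cfsg.Agent.Lib.Helper15.TSReal
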