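import Mathlib
import Cfsg.Agent.Lib.Helper4.UniStmt

set_option autoImplicit false

/-! Piece [EF] of S4395 (helper4's blueprint): a field with `p ^ a` elements, `a` the order of
`p` modulo `q`, has an element of order `q` whose multiplication is irreducible on `(K, +)`. -/

namespace Cfsg.Agent.Lib.Helper15.UniEF

open Cfsg.Agent.Lib.Helper4.UniStmt

universe u

/-- the order of `p` modulo `q` is positive -/
theorem orderOf_pos' (p q : ℕ) [Fact p.Prime] [Fact q.Prime] (hpq : p ≠ q) :
    0 < orderOf (p : ZMod q) := by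
  have hp : p.Prime := Fact.out
  have hq : q.Prime := Fact.out
  rw [orderOf_pos_iff, isOfFinOrder_iff_pow_eq_one]
  refine ⟨q - 1, by have := hq.two_le; omega, ?_⟩
  apply ZMod.pow_card_sub_one_eq_one
  intro h0
  rw [ZMod.natCast_eq_zero_iff] at h0
  exact hpq ((Nat.prime_dvd_prime_iff_eq hq hp).mp h0).symm

/-- `q ∣ p ^ d - 1` iff the order of `p` modulo `q` divides `d` -/
theorem dvd_pow_sub_one_iff (p q : ℕ) [Fact p.Prime] [Fact q.Prime] (d : ℕ) :
    q ∣ p ^ d - 1 ↔ orderOf (p : ZMod q) ∣ d := by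
  have hp : p.Prime := Fact.out
  have h1 : 1 ≤ p ^ d := Nat.one_le_pow _ _ hp.pos
  rw [orderOf_dvd_iff_pow_eq_one, ← ZMod.natCast_eq_zero_iff, Nat.cast_sub h1]
  push_cast
  rw [sub_eq_zero]

/-- a nonzero additive subgroup of a finite field with `p ^ a` elements stable under an element
of order `q` is everything -/
theorem irred (p q : ℕ) [Fact p.Prime] [Fact q.Prime] (K : Type u) [Field K]
    [Finite K] (lam : K) (hcard : Nat.card K = p ^ orderOf (p : ZMod q)) (hlam1 : lam ≠ 1)
    (hlamq : lam ^ q = 1) (A : AddSubgroup K) (hA : ∀ x ∈ A, lam * x ∈ A) :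
    A = ⊥ ∨ A = ⊤ := by
  classical
  have hp : p.Prime := Fact.out
  have hq : q.Prime := Fact.out
  by_cases hAb : A = ⊥
  · exact Or.inl hAb
  right
  have := Fintype.ofFinite K
  have := Fintype.ofFinite A
  -- `|A| = p ^ d`
  have hdvd : Nat.card A ∣ p ^ orderOf (p : ZMod q) := by
    rw [← hcard]
    exact AddSubgroup.card_addSubgroup_dvd_card A
  obtain ⟨d, hd, hAd⟩ := (Nat.dvd_prime_pow hp).mp hdvd
  -- multiplication by `lam` on `A`
  obtain ⟨f, hf⟩ : ∃ f : Function.End A, ∀ x : A, ((f x : A) : K) = lam * x :=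
    ⟨fun x => ⟨lam * x, hA x x.2⟩, fun x => rfl⟩
  have hfpow : ∀ n : ℕ, ∀ x : A, (((f ^ n) x : A) : K) = lam ^ n * x := by
    intro n
    induction n with
    | zero =>
      intro x
      rw [pow_zero, pow_zero, one_mul]
      rfl
    | succ n ih =>
      intro x
      rw [pow_succ]
      show (((f ^ n) (f x) : A) : K) = _
      rw [ih, hf, pow_succ, mul_assoc]
  have hfq : f ^ q ^ 1 = 1 := by
    funext x
    apply Subtype.ext
    rw [pow_one, hfpow, hlamq, one_mul]
    rfl
  have hmod := Equiv.Perm.card_fixedPoints_modEq (p := q) (n := 1) hfq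
  have hfix : Nat.card (Function.fixedPoints f) = 1 := by
    rw [Nat.card_eq_one_iff_exists]
    refine ⟨⟨0, ?_⟩, ?_⟩
    · apply Subtype.ext
      rw [hf]
      simp
    · rintro ⟨x, hx⟩
      apply Subtype.ext
      apply Subtype.ext
      have h1 : ((f x : A) : K) = x := congrArg Subtype.val hx
      rw [hf] at h1
      have h2 : (lam - 1) * (x : K) = 0 := by rw [sub_mul, h1, one_mul, sub_self]
      rcases mul_eq_zero.mp h2 with h3 | h3
      · exact absurd (sub_eq_zero.mp h3) hlam1
      · simpa using h3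
  rw [Fintype.card_eq_nat_card, Fintype.card_eq_nat_card, hfix, hAd] at hmod
  -- `q ∣ p ^ d - 1`
  have h1 : 1 ≤ p ^ d := Nat.one_le_pow _ _ hp.pos
  have hqd : q ∣ p ^ d - 1 := (Nat.modEq_iff_dvd' h1).mp hmod.symm
  have had : orderOf (p : ZMod q) ∣ d := (dvd_pow_sub_one_iff p q d).mp hqd
  have hd0 : d ≠ 0 := by
    rintro rfl
    rw [pow_zero] at hAd
    apply hAb
    rw [← AddSubgroup.card_eq_one]
    exact hAd
  have hda : d = orderOf (p : ZMod q) :=
    le_antisymm hd (Nat.le_of_dvd (Nat.pos_of_ne_zero hd0) had)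
  apply AddSubgroup.eq_top_of_card_eq
  rw [hAd, hda, hcard]

theorem main : EF.{u} := by
  intro p q _ _ hpq
  have hp : p.Prime := Fact.out
  have hq : q.Prime := Fact.out
  have ha := orderOf_pos' p q hpq
  obtain ⟨a, haeq⟩ : ∃ a, a = orderOf (p : ZMod q) := ⟨_, rfl⟩
  have hcard : Nat.card (ULift.{u} (GaloisField p a)) = p ^ a := by
    rw [Nat.card_ulift, GaloisField.card p a (by rw [haeq]; exact ha.ne')]
  -- an element of order `q`
  have hdvd : q ∣ Nat.card (ULift.{u} (GaloisField p a))ˣ := by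
    rw [Nat.card_units, hcard, dvd_pow_sub_one_iff, haeq]
  obtain ⟨w, hw⟩ := exists_prime_orderOf_dvd_card' q hdvd
  refine ⟨ULift.{u} (GaloisField p a), inferInstance, inferInstance, (w : ULift.{u} (GaloisField p a)), ?_,
    ?_, ?_, ?_⟩
  · rw [hcard, haeq]
  · intro h1
    have h2 : w = 1 := Units.ext h1
    rw [h2, orderOf_one] at hw
    exact hq.one_lt.ne hw
  · rw [← Units.val_pow_eq_pow_val, ← hw, pow_orderOf_eq_one, Units.val_one]
  · intro A hA
    apply irred p q _ (w : ULift.{u} (GaloisField p a)) (by rw [hcard, haeq]) ?_ ?_ A hA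
    · intro h1
      have h2 : w = 1 := Units.ext h1
      rw [h2, orderOf_one] at hw
      exact hq.one_lt.ne hw
    · rw [← Units.val_pow_eq_pow_val, ← hw, pow_orderOf_eq_one, Units.val_one]

end Cfsg.Agent.Lib.Helper15.UniEF
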