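import Mathlib
import Cfsg.Agent.Lib.Helper4.UniStmt
import Cfsg.Agent.Lib.Helper15.UniEF

set_option autoImplicit false

/-! Piece [EF2] of S4395 (helper4's blueprint): for `a` even the involution `Frob ^ (a / 2)` of
a field with `p ^ a` elements. -/

namespace Cfsg.Agent.Lib.Helper15.UniEF2

open Cfsg.Agent.Lib.Helper4.UniStmt Polynomial

universe u

/-- at most `n` solutions of `z ^ n + c * z = 0` -/
theorem card_le {K : Type u} [Field K] [Finite K] (n : ℕ) (hn : 1 < n) (c : K) :
    Nat.card {z : K // z ^ n + c * z = 0} ≤ n := by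
  classical
  have hdeg : degree (C c * X : K[X]) < (n : WithBot ℕ) := by
    refine lt_of_le_of_lt (degree_C_mul_X_le c) ?_
    exact_mod_cast hn
  have hmon : Monic (X ^ n + C c * X : K[X]) := monic_X_pow_add hdeg
  have hne : (X ^ n + C c * X : K[X]) ≠ 0 := hmon.ne_zero
  have hnat : (X ^ n + C c * X : K[X]).natDegree ≤ n := by
    apply natDegree_add_le_of_degree_le
    · exact (natDegree_X_pow_le n)
    · exact natDegree_le_of_degree_le hdeg.le
  have hsub : {z : K | z ^ n + c * z = 0} ⊆
      (((X ^ n + C c * X : K[X]).roots.toFinset : Finset K) : Set K) := by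
    intro z hz
    rw [Finset.mem_coe, Multiset.mem_toFinset, mem_roots hne, IsRoot.def]
    simpa using hz
  calc Nat.card {z : K // z ^ n + c * z = 0}
      = Set.ncard {z : K | z ^ n + c * z = 0} := Nat.card_coe_set_eq _
    _ ≤ Set.ncard (((X ^ n + C c * X : K[X]).roots.toFinset : Finset K) : Set K) :=
        Set.ncard_le_ncard hsub (Finset.finite_toSet _)
    _ = ((X ^ n + C c * X : K[X]).roots.toFinset).card := Set.ncard_coe_finset _
    _ ≤ Multiset.card (X ^ n + C c * X : K[X]).roots := Multiset.toFinset_card_le _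
    _ ≤ (X ^ n + C c * X : K[X]).natDegree := card_roots' _
    _ ≤ n := hnat

theorem main : EF2.{u} := by
  intro p q _ _ hpq hev K _ _ lam hcard hlamq
  classical
  have hp : p.Prime := Fact.out
  have hq : q.Prime := Fact.out
  obtain ⟨a, haeq⟩ : ∃ a, a = orderOf (p : ZMod q) := ⟨_, rfl⟩
  rw [← haeq] at hev hcard ⊢
  have ha : 0 < a := by rw [haeq]; exact UniEF.orderOf_pos' p q hpq
  obtain ⟨k, hk⟩ : ∃ k, a = 2 * k := ⟨a / 2, by omega⟩
  have hk0 : 0 < k := by omega
  have hak : a / 2 = k := by omega
  rw [hak]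
  have := Fintype.ofFinite K
  -- the characteristic is `p`
  have hchar : CharP K p := by
    obtain ⟨r, hr⟩ := CharP.exists K
    obtain ⟨n, hrp, hn⟩ := FiniteField.card K r
    have h1 : r ^ (n : ℕ) = p ^ a := by rw [← hn, ← Nat.card_eq_fintype_card, hcard]
    have h2 : r ∣ p ^ a := by
      rw [← h1]
      exact dvd_pow_self r n.ne_zero
    have h3 : r = p := (Nat.prime_dvd_prime_iff_eq hrp hp).mp (hrp.dvd_of_dvd_pow h2)
    rw [← h3]
    exact hr
  have hcardK : Fintype.card K = p ^ k * p ^ k := by
    rw [← Nat.card_eq_fintype_card, hcard, hk, ← pow_add]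
    congr 1
    omega
  have hpk : 1 < p ^ k := Nat.one_lt_pow hk0.ne' hp.one_lt
  refine ⟨iterateFrobenius K p k, ?_, ?_, ?_⟩
  · intro x
    rw [iterateFrobenius_def, iterateFrobenius_def, ← pow_mul, ← hcardK, FiniteField.pow_card]
  · -- `q ∣ p ^ k + 1`
    have ht2 : ((p : ZMod q) ^ k) ^ 2 = 1 := by
      rw [← pow_mul, mul_comm, ← hk, haeq, pow_orderOf_eq_one]
    have ht1 : (p : ZMod q) ^ k ≠ 1 := by
      apply pow_ne_one_of_lt_orderOf hk0.ne'
      rw [← haeq]
      omega
    have ht : (p : ZMod q) ^ k = -1 := by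
      have h1 : ((p : ZMod q) ^ k - 1) * ((p : ZMod q) ^ k + 1) = 0 := by
        have : ((p : ZMod q) ^ k - 1) * ((p : ZMod q) ^ k + 1) = ((p : ZMod q) ^ k) ^ 2 - 1 := by
          ring
        rw [this, ht2, sub_self]
      rcases mul_eq_zero.mp h1 with h2 | h2
      · exact absurd (sub_eq_zero.mp h2) ht1
      · exact eq_neg_of_add_eq_zero_left h2
    have hqd : q ∣ p ^ k + 1 := by
      rw [← ZMod.natCast_eq_zero_iff]
      push_cast
      rw [ht]
      ring
    obtain ⟨m, hm⟩ := hqd
    rw [iterateFrobenius_def]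
    calc lam * lam ^ p ^ k = lam ^ (p ^ k + 1) := by rw [pow_succ, mul_comm]
      _ = 1 := by rw [hm, pow_mul, hlamq, one_pow]
  · -- counting
    obtain ⟨T, hT⟩ : ∃ T : K →+ K, ∀ z, T z = z + iterateFrobenius K p k z :=
      ⟨AddMonoidHom.id K + (iterateFrobenius K p k : K →+ K), fun z => rfl⟩
    have hker : Nat.card T.ker = Nat.card {z : K // z + iterateFrobenius K p k z = 0} := by
      apply Nat.card_congr
      apply Equiv.subtypeEquivRight
      intro z
      rw [AddMonoidHom.mem_ker, hT]
    have hkerle : Nat.card {z : K // z + iterateFrobenius K p k z = 0} ≤ p ^ k := by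
      have h1 := card_le (K := K) (p ^ k) hpk 1
      refine le_trans (le_of_eq ?_) h1
      apply Nat.card_congr
      apply Equiv.subtypeEquivRight
      intro z
      rw [iterateFrobenius_def, one_mul, add_comm]
    have hfixle : Nat.card {c : K // iterateFrobenius K p k c = c} ≤ p ^ k := by
      have h1 := card_le (K := K) (p ^ k) hpk (-1)
      refine le_trans (le_of_eq ?_) h1
      apply Nat.card_congr
      apply Equiv.subtypeEquivRight
      intro z
      rw [iterateFrobenius_def, neg_one_mul, ← sub_eq_add_neg, sub_eq_zero]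
    -- the range of `T` consists of fixed points
    have hrfix : ∀ c : T.range, iterateFrobenius K p k (c : K) = (c : K) := by
      rintro ⟨c, z, rfl⟩
      show iterateFrobenius K p k (T z) = T z
      rw [hT, map_add]
      have h1 : iterateFrobenius K p k (iterateFrobenius K p k z) = z := by
        rw [iterateFrobenius_def, iterateFrobenius_def, ← pow_mul, ← hcardK,
          FiniteField.pow_card]
      rw [h1, add_comm]
    obtain ⟨ι, hι⟩ : ∃ ι : T.range → {c : K // iterateFrobenius K p k c = c},
        ∀ c : T.range, ((ι c : {c : K // iterateFrobenius K p k c = c}) : K) = (c : K) :=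
      ⟨fun c => ⟨(c : K), hrfix c⟩, fun c => rfl⟩
    have hιinj : Function.Injective ι := by
      intro c c' h
      apply Subtype.ext
      rw [← hι c, ← hι c', h]
    have hrle : Nat.card T.range ≤ Nat.card {c : K // iterateFrobenius K p k c = c} :=
      Nat.card_le_card_of_injective ι hιinj
    have hprod : Nat.card T.ker * Nat.card T.range = p ^ k * p ^ k := by
      rw [← AddSubgroup.index_ker, AddSubgroup.card_mul_index, Nat.card_eq_fintype_card, hcardK]
    rw [hker] at hprod
    have hpos : 0 < p ^ k := by omega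
    have hk1 : Nat.card {z : K // z + iterateFrobenius K p k z = 0} = p ^ k := by
      by_contra hne
      have hlt : Nat.card {z : K // z + iterateFrobenius K p k z = 0} < p ^ k :=
        lt_of_le_of_ne hkerle hne
      have hr' : Nat.card T.range ≤ p ^ k := hrle.trans hfixle
      have : Nat.card {z : K // z + iterateFrobenius K p k z = 0} * Nat.card T.range <
          p ^ k * p ^ k :=
        lt_of_le_of_lt (Nat.mul_le_mul_left _ hr') (Nat.mul_lt_mul_of_pos_right hlt hpos)
      omega
    refine ⟨hk1, ?_⟩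
    have hr1 : Nat.card T.range = p ^ k := by
      rw [hk1] at hprod
      exact Nat.eq_of_mul_eq_mul_left hpos hprod
    have hbij : Function.Bijective ι :=
      hιinj.bijective_of_nat_card_le (by rw [hr1]; exact hfixle)
    intro c hc
    obtain ⟨⟨c', z, hz⟩, hc'⟩ := hbij.2 ⟨c, hc⟩
    refine ⟨z, ?_⟩
    have h1 := hι ⟨c', z, hz⟩
    rw [hc'] at h1
    rw [← hT, hz]
    exact h1.symm

end Cfsg.Agent.Lib.Helper15.UniEF2
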